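import Cfsg.Agent.Lib.Helper2.HNBig.GTP0
import Cfsg.Agent.Lib.Helper2.HNBig.GTP1
import Cfsg.Agent.Lib.Helper2.HNBig.GTP2
import Cfsg.Agent.Lib.Helper2.HNBig.GTP3
import Cfsg.Agent.Lib.Helper2.HNBig.GTP4
import Cfsg.Agent.Lib.Helper2.HNBig.GTP5
import Cfsg.Agent.Lib.Helper2.HNBig.GTP6
import Cfsg.Agent.Lib.Helper2.HNBig.GTP7
import Cfsg.Agent.Lib.Helper2.HNBig.GTP8
import Cfsg.Agent.Lib.Helper2.HNBig.GTP9
import Cfsg.Agent.Lib.Helper2.HNBig.GTP10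
import Cfsg.Agent.Lib.Helper2.HNBig.GTP11
import Cfsg.Agent.Lib.Helper2.HNBig.GTP12
import Cfsg.Agent.Lib.Helper2.HNBig.GTP13
import Cfsg.Agent.Lib.Helper2.HNBig.GTP14
import Cfsg.Agent.Lib.Helper2.HNBig.GTP15
import Cfsg.Agent.Lib.Helper2.HNBig.GTP16
import Cfsg.Agent.Lib.Helper2.HNBig.GTP17
import Cfsg.Agent.Lib.Helper2.HNBig.GTP18
import Cfsg.Agent.Lib.Helper2.HNBig.GTP19
import Cfsg.Agent.Lib.Helper2.HNBig.GTP20
import Cfsg.Agent.Lib.Helper2.HNBig.GTP21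
import Cfsg.Agent.Lib.Helper2.HNBig.GTP22
import Cfsg.Agent.Lib.Helper2.HNBig.GTP23
set_option autoImplicit false
namespace Cfsg.Agent.Lib.Helper2.HNBig
noncomputable def GTT0 (i : Nat) : Nat := Bool.rec (GTP0N62 i) (GTP1N62 i) (Nat.ble 65536 i)
noncomputable def GTT1 (i : Nat) : Nat := Bool.rec (GTT0 i) (GTP2N62 i) (Nat.ble 131072 i)
noncomputable def GTT2 (i : Nat) : Nat := Bool.rec (GTP3N62 i) (GTP4N62 i) (Nat.ble 262144 i)
noncomputable def GTT3 (i : Nat) : Nat := Bool.rec (GTT2 i) (GTP5N62 i) (Nat.ble 327680 i)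
noncomputable def GTT4 (i : Nat) : Nat := Bool.rec (GTT1 i) (GTT3 i) (Nat.ble 196608 i)
noncomputable def GTT5 (i : Nat) : Nat := Bool.rec (GTP6N62 i) (GTP7N62 i) (Nat.ble 458752 i)
noncomputable def GTT6 (i : Nat) : Nat := Bool.rec (GTT5 i) (GTP8N62 i) (Nat.ble 524288 i)
noncomputable def GTT7 (i : Nat) : Nat := Bool.rec (GTP9N62 i) (GTP10N62 i) (Nat.ble 655360 i)
noncomputable def GTT8 (i : Nat) : Nat := Bool.rec (GTT7 i) (GTP11N62 i) (Nat.ble 720896 i)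
noncomputable def GTT9 (i : Nat) : Nat := Bool.rec (GTT6 i) (GTT8 i) (Nat.ble 589824 i)
noncomputable def GTT10 (i : Nat) : Nat := Bool.rec (GTT4 i) (GTT9 i) (Nat.ble 393216 i)
noncomputable def GTT11 (i : Nat) : Nat := Bool.rec (GTP12N62 i) (GTP13N62 i) (Nat.ble 851968 i)
noncomputable def GTT12 (i : Nat) : Nat := Bool.rec (GTT11 i) (GTP14N62 i) (Nat.ble 917504 i)
noncomputable def GTT13 (i : Nat) : Nat := Bool.rec (GTP15N62 i) (GTP16N62 i) (Nat.ble 1048576 i)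
noncomputable def GTT14 (i : Nat) : Nat := Bool.rec (GTT13 i) (GTP17N62 i) (Nat.ble 1114112 i)
noncomputable def GTT15 (i : Nat) : Nat := Bool.rec (GTT12 i) (GTT14 i) (Nat.ble 983040 i)
noncomputable def GTT16 (i : Nat) : Nat := Bool.rec (GTP18N62 i) (GTP19N62 i) (Nat.ble 1245184 i)
noncomputable def GTT17 (i : Nat) : Nat := Bool.rec (GTT16 i) (GTP20N62 i) (Nat.ble 1310720 i)
noncomputable def GTT18 (i : Nat) : Nat := Bool.rec (GTP21N62 i) (GTP22N62 i) (Nat.ble 1441792 i)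
noncomputable def GTT19 (i : Nat) : Nat := Bool.rec (GTT18 i) (GTP23N29 i) (Nat.ble 1507328 i)
noncomputable def GTT20 (i : Nat) : Nat := Bool.rec (GTT17 i) (GTT19 i) (Nat.ble 1376256 i)
noncomputable def GTT21 (i : Nat) : Nat := Bool.rec (GTT15 i) (GTT20 i) (Nat.ble 1179648 i)
noncomputable def GT (i : Nat) : Nat := Bool.rec (GTT10 i) (GTT21 i) (Nat.ble 786432 i)
end Cfsg.Agent.Lib.Helper2.HNBig
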