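import Cfsg.Agent.Lib.Helper2.HNBig.P1P0
import Cfsg.Agent.Lib.Helper2.HNBig.P1P1
import Cfsg.Agent.Lib.Helper2.HNBig.P1P2
import Cfsg.Agent.Lib.Helper2.HNBig.P1P3
import Cfsg.Agent.Lib.Helper2.HNBig.P1P4
import Cfsg.Agent.Lib.Helper2.HNBig.P1P5
import Cfsg.Agent.Lib.Helper2.HNBig.P1P6
import Cfsg.Agent.Lib.Helper2.HNBig.P1P7
import Cfsg.Agent.Lib.Helper2.HNBig.P1P8
import Cfsg.Agent.Lib.Helper2.HNBig.P1P9
import Cfsg.Agent.Lib.Helper2.HNBig.P1P10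
import Cfsg.Agent.Lib.Helper2.HNBig.P1P11
set_option autoImplicit false
namespace Cfsg.Agent.Lib.Helper2.HNBig
noncomputable def P1T0 (i : Nat) : Nat := Bool.rec (P1P0N62 i) (P1P1N62 i) (Nat.ble 131072 i)
noncomputable def P1T1 (i : Nat) : Nat := Bool.rec (P1T0 i) (P1P2N62 i) (Nat.ble 262144 i)
noncomputable def P1T2 (i : Nat) : Nat := Bool.rec (P1P3N62 i) (P1P4N62 i) (Nat.ble 524288 i)
noncomputable def P1T3 (i : Nat) : Nat := Bool.rec (P1T2 i) (P1P5N62 i) (Nat.ble 655360 i)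
noncomputable def P1T4 (i : Nat) : Nat := Bool.rec (P1T1 i) (P1T3 i) (Nat.ble 393216 i)
noncomputable def P1T5 (i : Nat) : Nat := Bool.rec (P1P6N62 i) (P1P7N62 i) (Nat.ble 917504 i)
noncomputable def P1T6 (i : Nat) : Nat := Bool.rec (P1T5 i) (P1P8N62 i) (Nat.ble 1048576 i)
noncomputable def P1T7 (i : Nat) : Nat := Bool.rec (P1P9N62 i) (P1P10N62 i) (Nat.ble 1310720 i)
noncomputable def P1T8 (i : Nat) : Nat := Bool.rec (P1T7 i) (P1P11N46 i) (Nat.ble 1441792 i)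
noncomputable def P1T9 (i : Nat) : Nat := Bool.rec (P1T6 i) (P1T8 i) (Nat.ble 1179648 i)
noncomputable def P1 (i : Nat) : Nat := Bool.rec (P1T4 i) (P1T9 i) (Nat.ble 786432 i)
end Cfsg.Agent.Lib.Helper2.HNBig
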