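import Cfsg.Agent.Lib.Helper2.HNBig.P6P0
import Cfsg.Agent.Lib.Helper2.HNBig.P6P1
import Cfsg.Agent.Lib.Helper2.HNBig.P6P2
import Cfsg.Agent.Lib.Helper2.HNBig.P6P3
import Cfsg.Agent.Lib.Helper2.HNBig.P6P4
import Cfsg.Agent.Lib.Helper2.HNBig.P6P5
import Cfsg.Agent.Lib.Helper2.HNBig.P6P6
import Cfsg.Agent.Lib.Helper2.HNBig.P6P7
import Cfsg.Agent.Lib.Helper2.HNBig.P6P8
import Cfsg.Agent.Lib.Helper2.HNBig.P6P9
import Cfsg.Agent.Lib.Helper2.HNBig.P6P10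
import Cfsg.Agent.Lib.Helper2.HNBig.P6P11
set_option autoImplicit false
namespace Cfsg.Agent.Lib.Helper2.HNBig
noncomputable def P6T0 (i : Nat) : Nat := Bool.rec (P6P0N62 i) (P6P1N62 i) (Nat.ble 131072 i)
noncomputable def P6T1 (i : Nat) : Nat := Bool.rec (P6T0 i) (P6P2N62 i) (Nat.ble 262144 i)
noncomputable def P6T2 (i : Nat) : Nat := Bool.rec (P6P3N62 i) (P6P4N62 i) (Nat.ble 524288 i)
noncomputable def P6T3 (i : Nat) : Nat := Bool.rec (P6T2 i) (P6P5N62 i) (Nat.ble 655360 i)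
noncomputable def P6T4 (i : Nat) : Nat := Bool.rec (P6T1 i) (P6T3 i) (Nat.ble 393216 i)
noncomputable def P6T5 (i : Nat) : Nat := Bool.rec (P6P6N62 i) (P6P7N62 i) (Nat.ble 917504 i)
noncomputable def P6T6 (i : Nat) : Nat := Bool.rec (P6T5 i) (P6P8N62 i) (Nat.ble 1048576 i)
noncomputable def P6T7 (i : Nat) : Nat := Bool.rec (P6P9N62 i) (P6P10N62 i) (Nat.ble 1310720 i)
noncomputable def P6T8 (i : Nat) : Nat := Bool.rec (P6T7 i) (P6P11N46 i) (Nat.ble 1441792 i)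
noncomputable def P6T9 (i : Nat) : Nat := Bool.rec (P6T6 i) (P6T8 i) (Nat.ble 1179648 i)
noncomputable def P6 (i : Nat) : Nat := Bool.rec (P6T4 i) (P6T9 i) (Nat.ble 786432 i)
end Cfsg.Agent.Lib.Helper2.HNBig
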