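import Cfsg.Agent.Lib.Helper2.HNBig.Q2P0
import Cfsg.Agent.Lib.Helper2.HNBig.Q2P1
import Cfsg.Agent.Lib.Helper2.HNBig.Q2P2
import Cfsg.Agent.Lib.Helper2.HNBig.Q2P3
import Cfsg.Agent.Lib.Helper2.HNBig.Q2P4
import Cfsg.Agent.Lib.Helper2.HNBig.Q2P5
import Cfsg.Agent.Lib.Helper2.HNBig.Q2P6
import Cfsg.Agent.Lib.Helper2.HNBig.Q2P7
import Cfsg.Agent.Lib.Helper2.HNBig.Q2P8
import Cfsg.Agent.Lib.Helper2.HNBig.Q2P9
import Cfsg.Agent.Lib.Helper2.HNBig.Q2P10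
import Cfsg.Agent.Lib.Helper2.HNBig.Q2P11
set_option autoImplicit false
namespace Cfsg.Agent.Lib.Helper2.HNBig
noncomputable def Q2T0 (i : Nat) : Nat := Bool.rec (Q2P0N62 i) (Q2P1N62 i) (Nat.ble 131072 i)
noncomputable def Q2T1 (i : Nat) : Nat := Bool.rec (Q2T0 i) (Q2P2N62 i) (Nat.ble 262144 i)
noncomputable def Q2T2 (i : Nat) : Nat := Bool.rec (Q2P3N62 i) (Q2P4N62 i) (Nat.ble 524288 i)
noncomputable def Q2T3 (i : Nat) : Nat := Bool.rec (Q2T2 i) (Q2P5N62 i) (Nat.ble 655360 i)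
noncomputable def Q2T4 (i : Nat) : Nat := Bool.rec (Q2T1 i) (Q2T3 i) (Nat.ble 393216 i)
noncomputable def Q2T5 (i : Nat) : Nat := Bool.rec (Q2P6N62 i) (Q2P7N62 i) (Nat.ble 917504 i)
noncomputable def Q2T6 (i : Nat) : Nat := Bool.rec (Q2T5 i) (Q2P8N62 i) (Nat.ble 1048576 i)
noncomputable def Q2T7 (i : Nat) : Nat := Bool.rec (Q2P9N62 i) (Q2P10N62 i) (Nat.ble 1310720 i)
noncomputable def Q2T8 (i : Nat) : Nat := Bool.rec (Q2T7 i) (Q2P11N46 i) (Nat.ble 1441792 i)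
noncomputable def Q2T9 (i : Nat) : Nat := Bool.rec (Q2T6 i) (Q2T8 i) (Nat.ble 1179648 i)
noncomputable def Q2 (i : Nat) : Nat := Bool.rec (Q2T4 i) (Q2T9 i) (Nat.ble 786432 i)
end Cfsg.Agent.Lib.Helper2.HNBig
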