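import Cfsg.Agent.Lib.Helper2.HNBig.Q3P0
import Cfsg.Agent.Lib.Helper2.HNBig.Q3P1
import Cfsg.Agent.Lib.Helper2.HNBig.Q3P2
import Cfsg.Agent.Lib.Helper2.HNBig.Q3P3
import Cfsg.Agent.Lib.Helper2.HNBig.Q3P4
import Cfsg.Agent.Lib.Helper2.HNBig.Q3P5
import Cfsg.Agent.Lib.Helper2.HNBig.Q3P6
import Cfsg.Agent.Lib.Helper2.HNBig.Q3P7
import Cfsg.Agent.Lib.Helper2.HNBig.Q3P8
import Cfsg.Agent.Lib.Helper2.HNBig.Q3P9
import Cfsg.Agent.Lib.Helper2.HNBig.Q3P10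
import Cfsg.Agent.Lib.Helper2.HNBig.Q3P11
set_option autoImplicit false
namespace Cfsg.Agent.Lib.Helper2.HNBig
noncomputable def Q3T0 (i : Nat) : Nat := Bool.rec (Q3P0N62 i) (Q3P1N62 i) (Nat.ble 131072 i)
noncomputable def Q3T1 (i : Nat) : Nat := Bool.rec (Q3T0 i) (Q3P2N62 i) (Nat.ble 262144 i)
noncomputable def Q3T2 (i : Nat) : Nat := Bool.rec (Q3P3N62 i) (Q3P4N62 i) (Nat.ble 524288 i)
noncomputable def Q3T3 (i : Nat) : Nat := Bool.rec (Q3T2 i) (Q3P5N62 i) (Nat.ble 655360 i)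
noncomputable def Q3T4 (i : Nat) : Nat := Bool.rec (Q3T1 i) (Q3T3 i) (Nat.ble 393216 i)
noncomputable def Q3T5 (i : Nat) : Nat := Bool.rec (Q3P6N62 i) (Q3P7N62 i) (Nat.ble 917504 i)
noncomputable def Q3T6 (i : Nat) : Nat := Bool.rec (Q3T5 i) (Q3P8N62 i) (Nat.ble 1048576 i)
noncomputable def Q3T7 (i : Nat) : Nat := Bool.rec (Q3P9N62 i) (Q3P10N62 i) (Nat.ble 1310720 i)
noncomputable def Q3T8 (i : Nat) : Nat := Bool.rec (Q3T7 i) (Q3P11N46 i) (Nat.ble 1441792 i)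
noncomputable def Q3T9 (i : Nat) : Nat := Bool.rec (Q3T6 i) (Q3T8 i) (Nat.ble 1179648 i)
noncomputable def Q3 (i : Nat) : Nat := Bool.rec (Q3T4 i) (Q3T9 i) (Nat.ble 786432 i)
end Cfsg.Agent.Lib.Helper2.HNBig
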