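import Cfsg.Agent.Lib.Helper2.HNBig.Q4P0
import Cfsg.Agent.Lib.Helper2.HNBig.Q4P1
import Cfsg.Agent.Lib.Helper2.HNBig.Q4P2
import Cfsg.Agent.Lib.Helper2.HNBig.Q4P3
import Cfsg.Agent.Lib.Helper2.HNBig.Q4P4
import Cfsg.Agent.Lib.Helper2.HNBig.Q4P5
import Cfsg.Agent.Lib.Helper2.HNBig.Q4P6
import Cfsg.Agent.Lib.Helper2.HNBig.Q4P7
import Cfsg.Agent.Lib.Helper2.HNBig.Q4P8
import Cfsg.Agent.Lib.Helper2.HNBig.Q4P9
import Cfsg.Agent.Lib.Helper2.HNBig.Q4P10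
import Cfsg.Agent.Lib.Helper2.HNBig.Q4P11
set_option autoImplicit false
namespace Cfsg.Agent.Lib.Helper2.HNBig
noncomputable def Q4T0 (i : Nat) : Nat := Bool.rec (Q4P0N62 i) (Q4P1N62 i) (Nat.ble 131072 i)
noncomputable def Q4T1 (i : Nat) : Nat := Bool.rec (Q4T0 i) (Q4P2N62 i) (Nat.ble 262144 i)
noncomputable def Q4T2 (i : Nat) : Nat := Bool.rec (Q4P3N62 i) (Q4P4N62 i) (Nat.ble 524288 i)
noncomputable def Q4T3 (i : Nat) : Nat := Bool.rec (Q4T2 i) (Q4P5N62 i) (Nat.ble 655360 i)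
noncomputable def Q4T4 (i : Nat) : Nat := Bool.rec (Q4T1 i) (Q4T3 i) (Nat.ble 393216 i)
noncomputable def Q4T5 (i : Nat) : Nat := Bool.rec (Q4P6N62 i) (Q4P7N62 i) (Nat.ble 917504 i)
noncomputable def Q4T6 (i : Nat) : Nat := Bool.rec (Q4T5 i) (Q4P8N62 i) (Nat.ble 1048576 i)
noncomputable def Q4T7 (i : Nat) : Nat := Bool.rec (Q4P9N62 i) (Q4P10N62 i) (Nat.ble 1310720 i)
noncomputable def Q4T8 (i : Nat) : Nat := Bool.rec (Q4T7 i) (Q4P11N46 i) (Nat.ble 1441792 i)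
noncomputable def Q4T9 (i : Nat) : Nat := Bool.rec (Q4T6 i) (Q4T8 i) (Nat.ble 1179648 i)
noncomputable def Q4 (i : Nat) : Nat := Bool.rec (Q4T4 i) (Q4T9 i) (Nat.ble 786432 i)
end Cfsg.Agent.Lib.Helper2.HNBig
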