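import Cfsg.Agent.Lib.Helper2.HNBig.Q9P0
import Cfsg.Agent.Lib.Helper2.HNBig.Q9P1
import Cfsg.Agent.Lib.Helper2.HNBig.Q9P2
import Cfsg.Agent.Lib.Helper2.HNBig.Q9P3
import Cfsg.Agent.Lib.Helper2.HNBig.Q9P4
import Cfsg.Agent.Lib.Helper2.HNBig.Q9P5
import Cfsg.Agent.Lib.Helper2.HNBig.Q9P6
import Cfsg.Agent.Lib.Helper2.HNBig.Q9P7
import Cfsg.Agent.Lib.Helper2.HNBig.Q9P8
import Cfsg.Agent.Lib.Helper2.HNBig.Q9P9
import Cfsg.Agent.Lib.Helper2.HNBig.Q9P10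
import Cfsg.Agent.Lib.Helper2.HNBig.Q9P11
set_option autoImplicit false
namespace Cfsg.Agent.Lib.Helper2.HNBig
noncomputable def Q9T0 (i : Nat) : Nat := Bool.rec (Q9P0N62 i) (Q9P1N62 i) (Nat.ble 131072 i)
noncomputable def Q9T1 (i : Nat) : Nat := Bool.rec (Q9T0 i) (Q9P2N62 i) (Nat.ble 262144 i)
noncomputable def Q9T2 (i : Nat) : Nat := Bool.rec (Q9P3N62 i) (Q9P4N62 i) (Nat.ble 524288 i)
noncomputable def Q9T3 (i : Nat) : Nat := Bool.rec (Q9T2 i) (Q9P5N62 i) (Nat.ble 655360 i)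
noncomputable def Q9T4 (i : Nat) : Nat := Bool.rec (Q9T1 i) (Q9T3 i) (Nat.ble 393216 i)
noncomputable def Q9T5 (i : Nat) : Nat := Bool.rec (Q9P6N62 i) (Q9P7N62 i) (Nat.ble 917504 i)
noncomputable def Q9T6 (i : Nat) : Nat := Bool.rec (Q9T5 i) (Q9P8N62 i) (Nat.ble 1048576 i)
noncomputable def Q9T7 (i : Nat) : Nat := Bool.rec (Q9P9N62 i) (Q9P10N62 i) (Nat.ble 1310720 i)
noncomputable def Q9T8 (i : Nat) : Nat := Bool.rec (Q9T7 i) (Q9P11N46 i) (Nat.ble 1441792 i)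
noncomputable def Q9T9 (i : Nat) : Nat := Bool.rec (Q9T6 i) (Q9T8 i) (Nat.ble 1179648 i)
noncomputable def Q9 (i : Nat) : Nat := Bool.rec (Q9T4 i) (Q9T9 i) (Nat.ble 786432 i)
end Cfsg.Agent.Lib.Helper2.HNBig
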