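import Cfsg.Agent.Lib.Helper2.HNBig.P0
import Cfsg.Agent.Lib.Helper2.HNBig.P1
import Cfsg.Agent.Lib.Helper2.HNBig.P2
import Cfsg.Agent.Lib.Helper2.HNBig.P3
import Cfsg.Agent.Lib.Helper2.HNBig.P4
import Cfsg.Agent.Lib.Helper2.HNBig.P5
import Cfsg.Agent.Lib.Helper2.HNBig.P6
import Cfsg.Agent.Lib.Helper2.HNBig.GT
import Cfsg.Agent.Lib.Helper2.HNBig.Q2
import Cfsg.Agent.Lib.Helper2.HNBig.Q3
import Cfsg.Agent.Lib.Helper2.HNBig.Q4
import Cfsg.Agent.Lib.Helper2.HNBig.Q5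
import Cfsg.Agent.Lib.Helper2.HNBig.Q9
set_option autoImplicit false
namespace Cfsg.Agent.Lib.Helper2.HNBig
def ncol : Nat := 7
def INV : Nat := 90448641
def N : Nat := 1539000
noncomputable def px (c p : Nat) : Nat := Nat.rec (motive := fun _ => Nat) (P0 p) (fun k0 _ => Nat.rec (motive := fun _ => Nat) (P1 p) (fun k1 _ => Nat.rec (motive := fun _ => Nat) (P2 p) (fun k2 _ => Nat.rec (motive := fun _ => Nat) (P3 p) (fun k3 _ => Nat.rec (motive := fun _ => Nat) (P4 p) (fun k4 _ => Nat.rec (motive := fun _ => Nat) (P5 p) (fun k5 _ => P6 p) k4) k3) k2) k1) k0) c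
noncomputable def R0 (p : Nat) : Nat := P2 (P2 (P2 (P2 (P2 (P2 p)))))
noncomputable def R1 (p : Nat) : Nat := P3 (P0 (P0 (P2 (P0 (P0 p)))))
noncomputable def U2 (p : Nat) : Nat := P2 (P0 (P3 (P1 p)))
noncomputable def R2 (p : Nat) : Nat := Q2 (Q2 (Q2 p))
noncomputable def U3 (p : Nat) : Nat := P2 (P2 (P2 (P0 (P2 (P2 (P1 p))))))
noncomputable def R3 (p : Nat) : Nat := Q3 (Q3 (Q3 p))
noncomputable def U4 (p : Nat) : Nat := P2 (P0 p)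
noncomputable def R4 (p : Nat) : Nat := Q4 (Q4 (Q4 (Q4 (Q4 (Q4 (Q4 (Q4 p)))))))
noncomputable def U5 (p : Nat) : Nat := P2 (P2 (P2 (P0 (P2 (P0 p)))))
noncomputable def R5 (p : Nat) : Nat := Q5 (Q5 (Q5 (Q5 p)))
noncomputable def R7 (p : Nat) : Nat := P0 (P4 (P0 (P4 p)))
noncomputable def R8 (p : Nat) : Nat := P1 (P1 (P3 (P0 (P2 (P2 (P0 (P2 (P0 (P2 (P4 (P3 (P1 (P3 (P1 (P3 (P3 (P1 (P2 (P4 p)))))))))))))))))))
noncomputable def U9 (p : Nat) : Nat := P0 (P2 (P0 (P2 (P0 (P2 (P2 (P2 (P4 (P3 (P3 (P3 (P1 (P3 (P1 (P3 p)))))))))))))))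
noncomputable def R9 (p : Nat) : Nat := Q9 (Q9 (Q9 (P4 p)))
noncomputable def R10 (p : Nat) : Nat := P5 (P5 (P5 (P5 (P5 p))))
noncomputable def R11 (p : Nat) : Nat := P5 (P5 (P0 (P5 (P1 p))))
noncomputable def R12 (p : Nat) : Nat := P2 (P5 (P3 (P6 p)))
noncomputable def R13 (p : Nat) : Nat := P5 (P4 (P5 (P4 (P5 (P4 p)))))
end Cfsg.Agent.Lib.Helper2.HNBig
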