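import Cfsg.Agent.Lib.Helper6.TC11
import Cfsg.Agent.Lib.Helper6.TC13
import Cfsg.Agent.Lib.Helper2.HNBig.Par
set_option autoImplicit false
set_option maxRecDepth 1000000
set_option Elab.async false
open Cfsg.Agent.Lib.Helper6.TC
namespace Cfsg.Agent.Lib.Helper2.HNBig
theorem chkP1_r17 : allR (fun p => band (Nat.blt (P1 p) 1539000) (Nat.beq (P0 (P1 p)) p)) 850000 50000 = true := by decide +kernel
theorem chkP1_r18 : allR (fun p => band (Nat.blt (P1 p) 1539000) (Nat.beq (P0 (P1 p)) p)) 900000 50000 = true := by decide +kernel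
theorem chkP1_r19 : allR (fun p => band (Nat.blt (P1 p) 1539000) (Nat.beq (P0 (P1 p)) p)) 950000 50000 = true := by decide +kernel
theorem chkP1_r20 : allR (fun p => band (Nat.blt (P1 p) 1539000) (Nat.beq (P0 (P1 p)) p)) 1000000 50000 = true := by decide +kernel
end Cfsg.Agent.Lib.Helper2.HNBig
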