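import Cfsg.Agent.Lib.Helper6.TC11
import Cfsg.Agent.Lib.Helper6.TC13
import Cfsg.Agent.Lib.Helper2.HNBig.Par
set_option autoImplicit false
set_option maxRecDepth 1000000
set_option Elab.async false
open Cfsg.Agent.Lib.Helper6.TC
namespace Cfsg.Agent.Lib.Helper2.HNBig
theorem chkP2_r2 : allR (fun p => band (Nat.blt (P2 p) 1539000) (Nat.beq (P3 (P2 p)) p)) 100000 50000 = true := by decide +kernel
theorem chkP2_r3 : allR (fun p => band (Nat.blt (P2 p) 1539000) (Nat.beq (P3 (P2 p)) p)) 150000 50000 = true := by decide +kernel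
theorem chkP2_r4 : allR (fun p => band (Nat.blt (P2 p) 1539000) (Nat.beq (P3 (P2 p)) p)) 200000 50000 = true := by decide +kernel
theorem chkP2_r5 : allR (fun p => band (Nat.blt (P2 p) 1539000) (Nat.beq (P3 (P2 p)) p)) 250000 50000 = true := by decide +kernel
end Cfsg.Agent.Lib.Helper2.HNBig
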