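import Cfsg.Agent.Lib.Helper6.TC11
import Cfsg.Agent.Lib.Helper6.TC13
import Cfsg.Agent.Lib.Helper6.TC15
import Cfsg.Agent.Lib.Helper2.HNBig.C38
import Cfsg.Agent.Lib.Helper2.HNBig.C39
import Cfsg.Agent.Lib.Helper2.HNBig.C40
import Cfsg.Agent.Lib.Helper2.HNBig.C41
import Cfsg.Agent.Lib.Helper2.HNBig.C42
import Cfsg.Agent.Lib.Helper2.HNBig.C43
import Cfsg.Agent.Lib.Helper2.HNBig.C44
import Cfsg.Agent.Lib.Helper2.HNBig.C45
import Cfsg.Agent.Lib.Helper2.HNBig.C46
set_option autoImplicit false
set_option maxRecDepth 1000000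
set_option Elab.async false
open Cfsg.Agent.Lib.Helper6.TC
namespace Cfsg.Agent.Lib.Helper2.HNBig
theorem chkP5_s0 : allR (fun p => band (Nat.blt (P5 p) 1539000) (Nat.beq (P6 (P5 p)) p)) 0 1000000 = true :=
  allR_of_chain _ 0 1000000 [(0, 50000), (50000, 50000), (100000, 50000), (150000, 50000), (200000, 50000), (250000, 50000), (300000, 50000), (350000, 50000), (400000, 50000), (450000, 50000), (500000, 50000), (550000, 50000), (600000, 50000), (650000, 50000), (700000, 50000), (750000, 50000), (800000, 50000), (850000, 50000), (900000, 50000), (950000, 50000)] (by decide) (by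
    intro c hc
    simp only [List.mem_cons, List.mem_nil_iff, or_false] at hc
    rcases hc with rfl | rfl | rfl | rfl | rfl | rfl | rfl | rfl | rfl | rfl | rfl | rfl | rfl | rfl | rfl | rfl | rfl | rfl | rfl | rfl
    · exact chkP5_r0
    · exact chkP5_r1
    · exact chkP5_r2
    · exact chkP5_r3
    · exact chkP5_r4
    · exact chkP5_r5
    · exact chkP5_r6
    · exact chkP5_r7
    · exact chkP5_r8
    · exact chkP5_r9
    · exact chkP5_r10
    · exact chkP5_r11
    · exact chkP5_r12
    · exact chkP5_r13
    · exact chkP5_r14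
    · exact chkP5_r15
    · exact chkP5_r16
    · exact chkP5_r17
    · exact chkP5_r18
    · exact chkP5_r19)
theorem chkP5_s1 : allR (fun p => band (Nat.blt (P5 p) 1539000) (Nat.beq (P6 (P5 p)) p)) 1000000 539000 = true :=
  allR_of_chain _ 1000000 539000 [(1000000, 50000), (1050000, 50000), (1100000, 50000), (1150000, 50000), (1200000, 50000), (1250000, 50000), (1300000, 50000), (1350000, 50000), (1400000, 50000), (1450000, 50000), (1500000, 39000)] (by decide) (by
    intro c hc
    simp only [List.mem_cons, List.mem_nil_iff, or_false] at hc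
    rcases hc with rfl | rfl | rfl | rfl | rfl | rfl | rfl | rfl | rfl | rfl | rfl
    · exact chkP5_r20
    · exact chkP5_r21
    · exact chkP5_r22
    · exact chkP5_r23
    · exact chkP5_r24
    · exact chkP5_r25
    · exact chkP5_r26
    · exact chkP5_r27
    · exact chkP5_r28
    · exact chkP5_r29
    · exact chkP5_r30)
theorem chkP5_all : allB (fun p => band (Nat.blt (P5 p) 1539000) (Nat.beq (P6 (P5 p)) p)) 1539000 = true :=
  allB_of_chain _ 1539000 [(0, 1000000), (1000000, 539000)] (by decide) (by
    intro c hc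
    simp only [List.mem_cons, List.mem_nil_iff, or_false] at hc
    rcases hc with rfl | rfl
    · exact chkP5_s0
    · exact chkP5_s1)
end Cfsg.Agent.Lib.Helper2.HNBig
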