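import Cfsg.Agent.Lib.Helper6.TC11
import Cfsg.Agent.Lib.Helper6.TC13
import Cfsg.Agent.Lib.Helper2.HNBig.Par
set_option autoImplicit false
set_option maxRecDepth 1000000
set_option Elab.async false
open Cfsg.Agent.Lib.Helper6.TC
namespace Cfsg.Agent.Lib.Helper2.HNBig
theorem chkP6_r30 : allR (fun p => band (Nat.blt (P6 p) 1539000) (Nat.beq (P5 (P6 p)) p)) 1500000 39000 = true := by decide +kernel
theorem chkT_r0 : allR (fun p => bor (Nat.beq p 0) ((fun g => band (Nat.blt (Nat.land g 15) 7) (band (Nat.blt (Nat.shiftRight g 4) p) (Nat.beq (px (Nat.land g 15) (Nat.shiftRight g 4)) p))) (GT p))) 0 50000 = true := by decide +kernel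
theorem chkT_r1 : allR (fun p => bor (Nat.beq p 0) ((fun g => band (Nat.blt (Nat.land g 15) 7) (band (Nat.blt (Nat.shiftRight g 4) p) (Nat.beq (px (Nat.land g 15) (Nat.shiftRight g 4)) p))) (GT p))) 50000 50000 = true := by decide +kernel
theorem chkT_r2 : allR (fun p => bor (Nat.beq p 0) ((fun g => band (Nat.blt (Nat.land g 15) 7) (band (Nat.blt (Nat.shiftRight g 4) p) (Nat.beq (px (Nat.land g 15) (Nat.shiftRight g 4)) p))) (GT p))) 100000 50000 = true := by decide +kernel
end Cfsg.Agent.Lib.Helper2.HNBig
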