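import Cfsg.Agent.Lib.Helper6.TC11
import Cfsg.Agent.Lib.Helper6.TC13
import Cfsg.Agent.Lib.Helper6.TC15
import Cfsg.Agent.Lib.Helper2.HNBig.C139
import Cfsg.Agent.Lib.Helper2.HNBig.C140
import Cfsg.Agent.Lib.Helper2.HNBig.C141
import Cfsg.Agent.Lib.Helper2.HNBig.C142
import Cfsg.Agent.Lib.Helper2.HNBig.C143
import Cfsg.Agent.Lib.Helper2.HNBig.C144
import Cfsg.Agent.Lib.Helper2.HNBig.C145
import Cfsg.Agent.Lib.Helper2.HNBig.C146
import Cfsg.Agent.Lib.Helper2.HNBig.C147
import Cfsg.Agent.Lib.Helper2.HNBig.C148
import Cfsg.Agent.Lib.Helper2.HNBig.C149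
import Cfsg.Agent.Lib.Helper2.HNBig.C150
import Cfsg.Agent.Lib.Helper2.HNBig.C151
import Cfsg.Agent.Lib.Helper2.HNBig.C152
import Cfsg.Agent.Lib.Helper2.HNBig.C153
import Cfsg.Agent.Lib.Helper2.HNBig.C154
import Cfsg.Agent.Lib.Helper2.HNBig.C155
import Cfsg.Agent.Lib.Helper2.HNBig.C156
import Cfsg.Agent.Lib.Helper2.HNBig.C157
import Cfsg.Agent.Lib.Helper2.HNBig.C158
import Cfsg.Agent.Lib.Helper2.HNBig.C159
import Cfsg.Agent.Lib.Helper2.HNBig.C160
import Cfsg.Agent.Lib.Helper2.HNBig.C161
import Cfsg.Agent.Lib.Helper2.HNBig.C162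
import Cfsg.Agent.Lib.Helper2.HNBig.C163
import Cfsg.Agent.Lib.Helper2.HNBig.C164
import Cfsg.Agent.Lib.Helper2.HNBig.C165
import Cfsg.Agent.Lib.Helper2.HNBig.C166
import Cfsg.Agent.Lib.Helper2.HNBig.C167
import Cfsg.Agent.Lib.Helper2.HNBig.C168
import Cfsg.Agent.Lib.Helper2.HNBig.C169
import Cfsg.Agent.Lib.Helper2.HNBig.C170
set_option autoImplicit false
set_option maxRecDepth 1000000
set_option Elab.async false
open Cfsg.Agent.Lib.Helper6.TC
namespace Cfsg.Agent.Lib.Helper2.HNBig
theorem chkQ3_s0 : allR (fun p => Nat.beq (Q3 p) (U3 p)) 0 250000 = true :=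
  allR_of_chain _ 0 250000 [(0, 12500), (12500, 12500), (25000, 12500), (37500, 12500), (50000, 12500), (62500, 12500), (75000, 12500), (87500, 12500), (100000, 12500), (112500, 12500), (125000, 12500), (137500, 12500), (150000, 12500), (162500, 12500), (175000, 12500), (187500, 12500), (200000, 12500), (212500, 12500), (225000, 12500), (237500, 12500)] (by decide) (by
    intro c hc
    simp only [List.mem_cons, List.mem_nil_iff, or_false] at hc
    rcases hc with rfl | rfl | rfl | rfl | rfl | rfl | rfl | rfl | rfl | rfl | rfl | rfl | rfl | rfl | rfl | rfl | rfl | rfl | rfl | rfl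
    · exact chkQ3_r0
    · exact chkQ3_r1
    · exact chkQ3_r2
    · exact chkQ3_r3
    · exact chkQ3_r4
    · exact chkQ3_r5
    · exact chkQ3_r6
    · exact chkQ3_r7
    · exact chkQ3_r8
    · exact chkQ3_r9
    · exact chkQ3_r10
    · exact chkQ3_r11
    · exact chkQ3_r12
    · exact chkQ3_r13
    · exact chkQ3_r14
    · exact chkQ3_r15
    · exact chkQ3_r16
    · exact chkQ3_r17
    · exact chkQ3_r18
    · exact chkQ3_r19)
theorem chkQ3_s1 : allR (fun p => Nat.beq (Q3 p) (U3 p)) 250000 250000 = true :=
  allR_of_chain _ 250000 250000 [(250000, 12500), (262500, 12500), (275000, 12500), (287500, 12500), (300000, 12500), (312500, 12500), (325000, 12500), (337500, 12500), (350000, 12500), (362500, 12500), (375000, 12500), (387500, 12500), (400000, 12500), (412500, 12500), (425000, 12500), (437500, 12500), (450000, 12500), (462500, 12500), (475000, 12500), (487500, 12500)] (by decide) (by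
    intro c hc
    simp only [List.mem_cons, List.mem_nil_iff, or_false] at hc
    rcases hc with rfl | rfl | rfl | rfl | rfl | rfl | rfl | rfl | rfl | rfl | rfl | rfl | rfl | rfl | rfl | rfl | rfl | rfl | rfl | rfl
    · exact chkQ3_r20
    · exact chkQ3_r21
    · exact chkQ3_r22
    · exact chkQ3_r23
    · exact chkQ3_r24
    · exact chkQ3_r25
    · exact chkQ3_r26
    · exact chkQ3_r27
    · exact chkQ3_r28
    · exact chkQ3_r29
    · exact chkQ3_r30
    · exact chkQ3_r31
    · exact chkQ3_r32
    · exact chkQ3_r33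
    · exact chkQ3_r34
    · exact chkQ3_r35
    · exact chkQ3_r36
    · exact chkQ3_r37
    · exact chkQ3_r38
    · exact chkQ3_r39)
theorem chkQ3_s2 : allR (fun p => Nat.beq (Q3 p) (U3 p)) 500000 250000 = true :=
  allR_of_chain _ 500000 250000 [(500000, 12500), (512500, 12500), (525000, 12500), (537500, 12500), (550000, 12500), (562500, 12500), (575000, 12500), (587500, 12500), (600000, 12500), (612500, 12500), (625000, 12500), (637500, 12500), (650000, 12500), (662500, 12500), (675000, 12500), (687500, 12500), (700000, 12500), (712500, 12500), (725000, 12500), (737500, 12500)] (by decide) (by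
    intro c hc
    simp only [List.mem_cons, List.mem_nil_iff, or_false] at hc
    rcases hc with rfl | rfl | rfl | rfl | rfl | rfl | rfl | rfl | rfl | rfl | rfl | rfl | rfl | rfl | rfl | rfl | rfl | rfl | rfl | rfl
    · exact chkQ3_r40
    · exact chkQ3_r41
    · exact chkQ3_r42
    · exact chkQ3_r43
    · exact chkQ3_r44
    · exact chkQ3_r45
    · exact chkQ3_r46
    · exact chkQ3_r47
    · exact chkQ3_r48
    · exact chkQ3_r49
    · exact chkQ3_r50
    · exact chkQ3_r51
    · exact chkQ3_r52
    · exact chkQ3_r53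
    · exact chkQ3_r54
    · exact chkQ3_r55
    · exact chkQ3_r56
    · exact chkQ3_r57
    · exact chkQ3_r58
    · exact chkQ3_r59)
theorem chkQ3_s3 : allR (fun p => Nat.beq (Q3 p) (U3 p)) 750000 250000 = true :=
  allR_of_chain _ 750000 250000 [(750000, 12500), (762500, 12500), (775000, 12500), (787500, 12500), (800000, 12500), (812500, 12500), (825000, 12500), (837500, 12500), (850000, 12500), (862500, 12500), (875000, 12500), (887500, 12500), (900000, 12500), (912500, 12500), (925000, 12500), (937500, 12500), (950000, 12500), (962500, 12500), (975000, 12500), (987500, 12500)] (by decide) (by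
    intro c hc
    simp only [List.mem_cons, List.mem_nil_iff, or_false] at hc
    rcases hc with rfl | rfl | rfl | rfl | rfl | rfl | rfl | rfl | rfl | rfl | rfl | rfl | rfl | rfl | rfl | rfl | rfl | rfl | rfl | rfl
    · exact chkQ3_r60
    · exact chkQ3_r61
    · exact chkQ3_r62
    · exact chkQ3_r63
    · exact chkQ3_r64
    · exact chkQ3_r65
    · exact chkQ3_r66
    · exact chkQ3_r67
    · exact chkQ3_r68
    · exact chkQ3_r69
    · exact chkQ3_r70
    · exact chkQ3_r71
    · exact chkQ3_r72
    · exact chkQ3_r73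
    · exact chkQ3_r74
    · exact chkQ3_r75
    · exact chkQ3_r76
    · exact chkQ3_r77
    · exact chkQ3_r78
    · exact chkQ3_r79)
theorem chkQ3_s4 : allR (fun p => Nat.beq (Q3 p) (U3 p)) 1000000 250000 = true :=
  allR_of_chain _ 1000000 250000 [(1000000, 12500), (1012500, 12500), (1025000, 12500), (1037500, 12500), (1050000, 12500), (1062500, 12500), (1075000, 12500), (1087500, 12500), (1100000, 12500), (1112500, 12500), (1125000, 12500), (1137500, 12500), (1150000, 12500), (1162500, 12500), (1175000, 12500), (1187500, 12500), (1200000, 12500), (1212500, 12500), (1225000, 12500), (1237500, 12500)] (by decide) (by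
    intro c hc
    simp only [List.mem_cons, List.mem_nil_iff, or_false] at hc
    rcases hc with rfl | rfl | rfl | rfl | rfl | rfl | rfl | rfl | rfl | rfl | rfl | rfl | rfl | rfl | rfl | rfl | rfl | rfl | rfl | rfl
    · exact chkQ3_r80
    · exact chkQ3_r81
    · exact chkQ3_r82
    · exact chkQ3_r83
    · exact chkQ3_r84
    · exact chkQ3_r85
    · exact chkQ3_r86
    · exact chkQ3_r87
    · exact chkQ3_r88
    · exact chkQ3_r89
    · exact chkQ3_r90
    · exact chkQ3_r91
    · exact chkQ3_r92
    · exact chkQ3_r93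
    · exact chkQ3_r94
    · exact chkQ3_r95
    · exact chkQ3_r96
    · exact chkQ3_r97
    · exact chkQ3_r98
    · exact chkQ3_r99)
theorem chkQ3_s5 : allR (fun p => Nat.beq (Q3 p) (U3 p)) 1250000 250000 = true :=
  allR_of_chain _ 1250000 250000 [(1250000, 12500), (1262500, 12500), (1275000, 12500), (1287500, 12500), (1300000, 12500), (1312500, 12500), (1325000, 12500), (1337500, 12500), (1350000, 12500), (1362500, 12500), (1375000, 12500), (1387500, 12500), (1400000, 12500), (1412500, 12500), (1425000, 12500), (1437500, 12500), (1450000, 12500), (1462500, 12500), (1475000, 12500), (1487500, 12500)] (by decide) (by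
    intro c hc
    simp only [List.mem_cons, List.mem_nil_iff, or_false] at hc
    rcases hc with rfl | rfl | rfl | rfl | rfl | rfl | rfl | rfl | rfl | rfl | rfl | rfl | rfl | rfl | rfl | rfl | rfl | rfl | rfl | rfl
    · exact chkQ3_r100
    · exact chkQ3_r101
    · exact chkQ3_r102
    · exact chkQ3_r103
    · exact chkQ3_r104
    · exact chkQ3_r105
    · exact chkQ3_r106
    · exact chkQ3_r107
    · exact chkQ3_r108
    · exact chkQ3_r109
    · exact chkQ3_r110
    · exact chkQ3_r111
    · exact chkQ3_r112
    · exact chkQ3_r113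
    · exact chkQ3_r114
    · exact chkQ3_r115
    · exact chkQ3_r116
    · exact chkQ3_r117
    · exact chkQ3_r118
    · exact chkQ3_r119)
theorem chkQ3_s6 : allR (fun p => Nat.beq (Q3 p) (U3 p)) 1500000 39000 = true :=
  allR_of_chain _ 1500000 39000 [(1500000, 12500), (1512500, 12500), (1525000, 12500), (1537500, 1500)] (by decide) (by
    intro c hc
    simp only [List.mem_cons, List.mem_nil_iff, or_false] at hc
    rcases hc with rfl | rfl | rfl | rfl
    · exact chkQ3_r120
    · exact chkQ3_r121
    · exact chkQ3_r122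
    · exact chkQ3_r123)
theorem chkQ3_all : allB (fun p => Nat.beq (Q3 p) (U3 p)) 1539000 = true :=
  allB_of_chain _ 1539000 [(0, 250000), (250000, 250000), (500000, 250000), (750000, 250000), (1000000, 250000), (1250000, 250000), (1500000, 39000)] (by decide) (by
    intro c hc
    simp only [List.mem_cons, List.mem_nil_iff, or_false] at hc
    rcases hc with rfl | rfl | rfl | rfl | rfl | rfl | rfl
    · exact chkQ3_s0
    · exact chkQ3_s1
    · exact chkQ3_s2
    · exact chkQ3_s3
    · exact chkQ3_s4
    · exact chkQ3_s5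
    · exact chkQ3_s6)
end Cfsg.Agent.Lib.Helper2.HNBig
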