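import Cfsg.Agent.Lib.Helper6.TC11
import Cfsg.Agent.Lib.Helper6.TC13
import Cfsg.Agent.Lib.Helper6.TC15
import Cfsg.Agent.Lib.Helper2.HNBig.C182
import Cfsg.Agent.Lib.Helper2.HNBig.C183
import Cfsg.Agent.Lib.Helper2.HNBig.C184
import Cfsg.Agent.Lib.Helper2.HNBig.C185
import Cfsg.Agent.Lib.Helper2.HNBig.C186
import Cfsg.Agent.Lib.Helper2.HNBig.C187
import Cfsg.Agent.Lib.Helper2.HNBig.C188
import Cfsg.Agent.Lib.Helper2.HNBig.C189
import Cfsg.Agent.Lib.Helper2.HNBig.C190
import Cfsg.Agent.Lib.Helper2.HNBig.C191
import Cfsg.Agent.Lib.Helper2.HNBig.C192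
import Cfsg.Agent.Lib.Helper2.HNBig.C193
set_option autoImplicit false
set_option maxRecDepth 1000000
set_option Elab.async false
open Cfsg.Agent.Lib.Helper6.TC
namespace Cfsg.Agent.Lib.Helper2.HNBig
theorem chkQ4_s0 : allR (fun p => Nat.beq (Q4 p) (U4 p)) 0 666660 = true :=
  allR_of_chain _ 0 666660 [(0, 33333), (33333, 33333), (66666, 33333), (99999, 33333), (133332, 33333), (166665, 33333), (199998, 33333), (233331, 33333), (266664, 33333), (299997, 33333), (333330, 33333), (366663, 33333), (399996, 33333), (433329, 33333), (466662, 33333), (499995, 33333), (533328, 33333), (566661, 33333), (599994, 33333), (633327, 33333)] (by decide) (by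
    intro c hc
    simp only [List.mem_cons, List.mem_nil_iff, or_false] at hc
    rcases hc with rfl | rfl | rfl | rfl | rfl | rfl | rfl | rfl | rfl | rfl | rfl | rfl | rfl | rfl | rfl | rfl | rfl | rfl | rfl | rfl
    · exact chkQ4_r0
    · exact chkQ4_r1
    · exact chkQ4_r2
    · exact chkQ4_r3
    · exact chkQ4_r4
    · exact chkQ4_r5
    · exact chkQ4_r6
    · exact chkQ4_r7
    · exact chkQ4_r8
    · exact chkQ4_r9
    · exact chkQ4_r10
    · exact chkQ4_r11
    · exact chkQ4_r12
    · exact chkQ4_r13
    · exact chkQ4_r14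
    · exact chkQ4_r15
    · exact chkQ4_r16
    · exact chkQ4_r17
    · exact chkQ4_r18
    · exact chkQ4_r19)
theorem chkQ4_s1 : allR (fun p => Nat.beq (Q4 p) (U4 p)) 666660 666660 = true :=
  allR_of_chain _ 666660 666660 [(666660, 33333), (699993, 33333), (733326, 33333), (766659, 33333), (799992, 33333), (833325, 33333), (866658, 33333), (899991, 33333), (933324, 33333), (966657, 33333), (999990, 33333), (1033323, 33333), (1066656, 33333), (1099989, 33333), (1133322, 33333), (1166655, 33333), (1199988, 33333), (1233321, 33333), (1266654, 33333), (1299987, 33333)] (by decide) (by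
    intro c hc
    simp only [List.mem_cons, List.mem_nil_iff, or_false] at hc
    rcases hc with rfl | rfl | rfl | rfl | rfl | rfl | rfl | rfl | rfl | rfl | rfl | rfl | rfl | rfl | rfl | rfl | rfl | rfl | rfl | rfl
    · exact chkQ4_r20
    · exact chkQ4_r21
    · exact chkQ4_r22
    · exact chkQ4_r23
    · exact chkQ4_r24
    · exact chkQ4_r25
    · exact chkQ4_r26
    · exact chkQ4_r27
    · exact chkQ4_r28
    · exact chkQ4_r29
    · exact chkQ4_r30
    · exact chkQ4_r31
    · exact chkQ4_r32
    · exact chkQ4_r33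
    · exact chkQ4_r34
    · exact chkQ4_r35
    · exact chkQ4_r36
    · exact chkQ4_r37
    · exact chkQ4_r38
    · exact chkQ4_r39)
theorem chkQ4_s2 : allR (fun p => Nat.beq (Q4 p) (U4 p)) 1333320 205680 = true :=
  allR_of_chain _ 1333320 205680 [(1333320, 33333), (1366653, 33333), (1399986, 33333), (1433319, 33333), (1466652, 33333), (1499985, 33333), (1533318, 5682)] (by decide) (by
    intro c hc
    simp only [List.mem_cons, List.mem_nil_iff, or_false] at hc
    rcases hc with rfl | rfl | rfl | rfl | rfl | rfl | rfl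
    · exact chkQ4_r40
    · exact chkQ4_r41
    · exact chkQ4_r42
    · exact chkQ4_r43
    · exact chkQ4_r44
    · exact chkQ4_r45
    · exact chkQ4_r46)
theorem chkQ4_all : allB (fun p => Nat.beq (Q4 p) (U4 p)) 1539000 = true :=
  allB_of_chain _ 1539000 [(0, 666660), (666660, 666660), (1333320, 205680)] (by decide) (by
    intro c hc
    simp only [List.mem_cons, List.mem_nil_iff, or_false] at hc
    rcases hc with rfl | rfl | rfl
    · exact chkQ4_s0
    · exact chkQ4_s1
    · exact chkQ4_s2)
end Cfsg.Agent.Lib.Helper2.HNBig
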