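import Cfsg.Agent.Lib.Helper6.TC11
import Cfsg.Agent.Lib.Helper6.TC13
import Cfsg.Agent.Lib.Helper6.TC15
import Cfsg.Agent.Lib.Helper2.HNBig.C225
import Cfsg.Agent.Lib.Helper2.HNBig.C226
import Cfsg.Agent.Lib.Helper2.HNBig.C227
import Cfsg.Agent.Lib.Helper2.HNBig.C228
import Cfsg.Agent.Lib.Helper2.HNBig.C229
import Cfsg.Agent.Lib.Helper2.HNBig.C230
import Cfsg.Agent.Lib.Helper2.HNBig.C231
import Cfsg.Agent.Lib.Helper2.HNBig.C232
import Cfsg.Agent.Lib.Helper2.HNBig.C233
import Cfsg.Agent.Lib.Helper2.HNBig.C234
import Cfsg.Agent.Lib.Helper2.HNBig.C235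
import Cfsg.Agent.Lib.Helper2.HNBig.C236
import Cfsg.Agent.Lib.Helper2.HNBig.C237
import Cfsg.Agent.Lib.Helper2.HNBig.C238
import Cfsg.Agent.Lib.Helper2.HNBig.C239
import Cfsg.Agent.Lib.Helper2.HNBig.C240
import Cfsg.Agent.Lib.Helper2.HNBig.C241
import Cfsg.Agent.Lib.Helper2.HNBig.C242
import Cfsg.Agent.Lib.Helper2.HNBig.C243
import Cfsg.Agent.Lib.Helper2.HNBig.C244
import Cfsg.Agent.Lib.Helper2.HNBig.C245
import Cfsg.Agent.Lib.Helper2.HNBig.C246
import Cfsg.Agent.Lib.Helper2.HNBig.C247
import Cfsg.Agent.Lib.Helper2.HNBig.C248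
import Cfsg.Agent.Lib.Helper2.HNBig.C249
import Cfsg.Agent.Lib.Helper2.HNBig.C250
import Cfsg.Agent.Lib.Helper2.HNBig.C251
set_option autoImplicit false
set_option maxRecDepth 1000000
set_option Elab.async false
open Cfsg.Agent.Lib.Helper6.TC
namespace Cfsg.Agent.Lib.Helper2.HNBig
theorem chkQ5_s0 : allR (fun p => Nat.beq (Q5 p) (U5 p)) 0 285700 = true :=
  allR_of_chain _ 0 285700 [(0, 14285), (14285, 14285), (28570, 14285), (42855, 14285), (57140, 14285), (71425, 14285), (85710, 14285), (99995, 14285), (114280, 14285), (128565, 14285), (142850, 14285), (157135, 14285), (171420, 14285), (185705, 14285), (199990, 14285), (214275, 14285), (228560, 14285), (242845, 14285), (257130, 14285), (271415, 14285)] (by decide) (by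
    intro c hc
    simp only [List.mem_cons, List.mem_nil_iff, or_false] at hc
    rcases hc with rfl | rfl | rfl | rfl | rfl | rfl | rfl | rfl | rfl | rfl | rfl | rfl | rfl | rfl | rfl | rfl | rfl | rfl | rfl | rfl
    · exact chkQ5_r0
    · exact chkQ5_r1
    · exact chkQ5_r2
    · exact chkQ5_r3
    · exact chkQ5_r4
    · exact chkQ5_r5
    · exact chkQ5_r6
    · exact chkQ5_r7
    · exact chkQ5_r8
    · exact chkQ5_r9
    · exact chkQ5_r10
    · exact chkQ5_r11
    · exact chkQ5_r12
    · exact chkQ5_r13
    · exact chkQ5_r14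
    · exact chkQ5_r15
    · exact chkQ5_r16
    · exact chkQ5_r17
    · exact chkQ5_r18
    · exact chkQ5_r19)
theorem chkQ5_s1 : allR (fun p => Nat.beq (Q5 p) (U5 p)) 285700 285700 = true :=
  allR_of_chain _ 285700 285700 [(285700, 14285), (299985, 14285), (314270, 14285), (328555, 14285), (342840, 14285), (357125, 14285), (371410, 14285), (385695, 14285), (399980, 14285), (414265, 14285), (428550, 14285), (442835, 14285), (457120, 14285), (471405, 14285), (485690, 14285), (499975, 14285), (514260, 14285), (528545, 14285), (542830, 14285), (557115, 14285)] (by decide) (by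
    intro c hc
    simp only [List.mem_cons, List.mem_nil_iff, or_false] at hc
    rcases hc with rfl | rfl | rfl | rfl | rfl | rfl | rfl | rfl | rfl | rfl | rfl | rfl | rfl | rfl | rfl | rfl | rfl | rfl | rfl | rfl
    · exact chkQ5_r20
    · exact chkQ5_r21
    · exact chkQ5_r22
    · exact chkQ5_r23
    · exact chkQ5_r24
    · exact chkQ5_r25
    · exact chkQ5_r26
    · exact chkQ5_r27
    · exact chkQ5_r28
    · exact chkQ5_r29
    · exact chkQ5_r30
    · exact chkQ5_r31
    · exact chkQ5_r32
    · exact chkQ5_r33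
    · exact chkQ5_r34
    · exact chkQ5_r35
    · exact chkQ5_r36
    · exact chkQ5_r37
    · exact chkQ5_r38
    · exact chkQ5_r39)
theorem chkQ5_s2 : allR (fun p => Nat.beq (Q5 p) (U5 p)) 571400 285700 = true :=
  allR_of_chain _ 571400 285700 [(571400, 14285), (585685, 14285), (599970, 14285), (614255, 14285), (628540, 14285), (642825, 14285), (657110, 14285), (671395, 14285), (685680, 14285), (699965, 14285), (714250, 14285), (728535, 14285), (742820, 14285), (757105, 14285), (771390, 14285), (785675, 14285), (799960, 14285), (814245, 14285), (828530, 14285), (842815, 14285)] (by decide) (by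
    intro c hc
    simp only [List.mem_cons, List.mem_nil_iff, or_false] at hc
    rcases hc with rfl | rfl | rfl | rfl | rfl | rfl | rfl | rfl | rfl | rfl | rfl | rfl | rfl | rfl | rfl | rfl | rfl | rfl | rfl | rfl
    · exact chkQ5_r40
    · exact chkQ5_r41
    · exact chkQ5_r42
    · exact chkQ5_r43
    · exact chkQ5_r44
    · exact chkQ5_r45
    · exact chkQ5_r46
    · exact chkQ5_r47
    · exact chkQ5_r48
    · exact chkQ5_r49
    · exact chkQ5_r50
    · exact chkQ5_r51
    · exact chkQ5_r52
    · exact chkQ5_r53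
    · exact chkQ5_r54
    · exact chkQ5_r55
    · exact chkQ5_r56
    · exact chkQ5_r57
    · exact chkQ5_r58
    · exact chkQ5_r59)
theorem chkQ5_s3 : allR (fun p => Nat.beq (Q5 p) (U5 p)) 857100 285700 = true :=
  allR_of_chain _ 857100 285700 [(857100, 14285), (871385, 14285), (885670, 14285), (899955, 14285), (914240, 14285), (928525, 14285), (942810, 14285), (957095, 14285), (971380, 14285), (985665, 14285), (999950, 14285), (1014235, 14285), (1028520, 14285), (1042805, 14285), (1057090, 14285), (1071375, 14285), (1085660, 14285), (1099945, 14285), (1114230, 14285), (1128515, 14285)] (by decide) (by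
    intro c hc
    simp only [List.mem_cons, List.mem_nil_iff, or_false] at hc
    rcases hc with rfl | rfl | rfl | rfl | rfl | rfl | rfl | rfl | rfl | rfl | rfl | rfl | rfl | rfl | rfl | rfl | rfl | rfl | rfl | rfl
    · exact chkQ5_r60
    · exact chkQ5_r61
    · exact chkQ5_r62
    · exact chkQ5_r63
    · exact chkQ5_r64
    · exact chkQ5_r65
    · exact chkQ5_r66
    · exact chkQ5_r67
    · exact chkQ5_r68
    · exact chkQ5_r69
    · exact chkQ5_r70
    · exact chkQ5_r71
    · exact chkQ5_r72
    · exact chkQ5_r73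
    · exact chkQ5_r74
    · exact chkQ5_r75
    · exact chkQ5_r76
    · exact chkQ5_r77
    · exact chkQ5_r78
    · exact chkQ5_r79)
theorem chkQ5_s4 : allR (fun p => Nat.beq (Q5 p) (U5 p)) 1142800 285700 = true :=
  allR_of_chain _ 1142800 285700 [(1142800, 14285), (1157085, 14285), (1171370, 14285), (1185655, 14285), (1199940, 14285), (1214225, 14285), (1228510, 14285), (1242795, 14285), (1257080, 14285), (1271365, 14285), (1285650, 14285), (1299935, 14285), (1314220, 14285), (1328505, 14285), (1342790, 14285), (1357075, 14285), (1371360, 14285), (1385645, 14285), (1399930, 14285), (1414215, 14285)] (by decide) (by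
    intro c hc
    simp only [List.mem_cons, List.mem_nil_iff, or_false] at hc
    rcases hc with rfl | rfl | rfl | rfl | rfl | rfl | rfl | rfl | rfl | rfl | rfl | rfl | rfl | rfl | rfl | rfl | rfl | rfl | rfl | rfl
    · exact chkQ5_r80
    · exact chkQ5_r81
    · exact chkQ5_r82
    · exact chkQ5_r83
    · exact chkQ5_r84
    · exact chkQ5_r85
    · exact chkQ5_r86
    · exact chkQ5_r87
    · exact chkQ5_r88
    · exact chkQ5_r89
    · exact chkQ5_r90
    · exact chkQ5_r91
    · exact chkQ5_r92
    · exact chkQ5_r93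
    · exact chkQ5_r94
    · exact chkQ5_r95
    · exact chkQ5_r96
    · exact chkQ5_r97
    · exact chkQ5_r98
    · exact chkQ5_r99)
theorem chkQ5_s5 : allR (fun p => Nat.beq (Q5 p) (U5 p)) 1428500 110500 = true :=
  allR_of_chain _ 1428500 110500 [(1428500, 14285), (1442785, 14285), (1457070, 14285), (1471355, 14285), (1485640, 14285), (1499925, 14285), (1514210, 14285), (1528495, 10505)] (by decide) (by
    intro c hc
    simp only [List.mem_cons, List.mem_nil_iff, or_false] at hc
    rcases hc with rfl | rfl | rfl | rfl | rfl | rfl | rfl | rfl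
    · exact chkQ5_r100
    · exact chkQ5_r101
    · exact chkQ5_r102
    · exact chkQ5_r103
    · exact chkQ5_r104
    · exact chkQ5_r105
    · exact chkQ5_r106
    · exact chkQ5_r107)
theorem chkQ5_all : allB (fun p => Nat.beq (Q5 p) (U5 p)) 1539000 = true :=
  allB_of_chain _ 1539000 [(0, 285700), (285700, 285700), (571400, 285700), (857100, 285700), (1142800, 285700), (1428500, 110500)] (by decide) (by
    intro c hc
    simp only [List.mem_cons, List.mem_nil_iff, or_false] at hc
    rcases hc with rfl | rfl | rfl | rfl | rfl | rfl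
    · exact chkQ5_s0
    · exact chkQ5_s1
    · exact chkQ5_s2
    · exact chkQ5_s3
    · exact chkQ5_s4
    · exact chkQ5_s5)
end Cfsg.Agent.Lib.Helper2.HNBig
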