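import Cfsg.Agent.Lib.Helper6.TC11
import Cfsg.Agent.Lib.Helper6.TC13
import Cfsg.Agent.Lib.Helper6.TC15
import Cfsg.Agent.Lib.Helper2.HNBig.C360
import Cfsg.Agent.Lib.Helper2.HNBig.C361
import Cfsg.Agent.Lib.Helper2.HNBig.C362
import Cfsg.Agent.Lib.Helper2.HNBig.C363
import Cfsg.Agent.Lib.Helper2.HNBig.C364
import Cfsg.Agent.Lib.Helper2.HNBig.C365
import Cfsg.Agent.Lib.Helper2.HNBig.C366
import Cfsg.Agent.Lib.Helper2.HNBig.C367
import Cfsg.Agent.Lib.Helper2.HNBig.C368
import Cfsg.Agent.Lib.Helper2.HNBig.C369
import Cfsg.Agent.Lib.Helper2.HNBig.C370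
import Cfsg.Agent.Lib.Helper2.HNBig.C371
import Cfsg.Agent.Lib.Helper2.HNBig.C372
import Cfsg.Agent.Lib.Helper2.HNBig.C373
import Cfsg.Agent.Lib.Helper2.HNBig.C374
import Cfsg.Agent.Lib.Helper2.HNBig.C375
import Cfsg.Agent.Lib.Helper2.HNBig.C376
import Cfsg.Agent.Lib.Helper2.HNBig.C377
import Cfsg.Agent.Lib.Helper2.HNBig.C378
import Cfsg.Agent.Lib.Helper2.HNBig.C379
import Cfsg.Agent.Lib.Helper2.HNBig.C380
import Cfsg.Agent.Lib.Helper2.HNBig.C381
import Cfsg.Agent.Lib.Helper2.HNBig.C382
import Cfsg.Agent.Lib.Helper2.HNBig.C383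
import Cfsg.Agent.Lib.Helper2.HNBig.C384
import Cfsg.Agent.Lib.Helper2.HNBig.C385
import Cfsg.Agent.Lib.Helper2.HNBig.C386
import Cfsg.Agent.Lib.Helper2.HNBig.C387
import Cfsg.Agent.Lib.Helper2.HNBig.C388
import Cfsg.Agent.Lib.Helper2.HNBig.C389
import Cfsg.Agent.Lib.Helper2.HNBig.C390
import Cfsg.Agent.Lib.Helper2.HNBig.C391
import Cfsg.Agent.Lib.Helper2.HNBig.C392
import Cfsg.Agent.Lib.Helper2.HNBig.C393
import Cfsg.Agent.Lib.Helper2.HNBig.C394
import Cfsg.Agent.Lib.Helper2.HNBig.C395
import Cfsg.Agent.Lib.Helper2.HNBig.C396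
import Cfsg.Agent.Lib.Helper2.HNBig.C397
import Cfsg.Agent.Lib.Helper2.HNBig.C398
import Cfsg.Agent.Lib.Helper2.HNBig.C399
import Cfsg.Agent.Lib.Helper2.HNBig.C400
import Cfsg.Agent.Lib.Helper2.HNBig.C401
import Cfsg.Agent.Lib.Helper2.HNBig.C402
import Cfsg.Agent.Lib.Helper2.HNBig.C403
import Cfsg.Agent.Lib.Helper2.HNBig.C404
import Cfsg.Agent.Lib.Helper2.HNBig.C405
import Cfsg.Agent.Lib.Helper2.HNBig.C406
import Cfsg.Agent.Lib.Helper2.HNBig.C407
import Cfsg.Agent.Lib.Helper2.HNBig.C408
import Cfsg.Agent.Lib.Helper2.HNBig.C409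
import Cfsg.Agent.Lib.Helper2.HNBig.C410
import Cfsg.Agent.Lib.Helper2.HNBig.C411
import Cfsg.Agent.Lib.Helper2.HNBig.C412
import Cfsg.Agent.Lib.Helper2.HNBig.C413
import Cfsg.Agent.Lib.Helper2.HNBig.C414
import Cfsg.Agent.Lib.Helper2.HNBig.C415
import Cfsg.Agent.Lib.Helper2.HNBig.C416
import Cfsg.Agent.Lib.Helper2.HNBig.C417
import Cfsg.Agent.Lib.Helper2.HNBig.C418
import Cfsg.Agent.Lib.Helper2.HNBig.C419
import Cfsg.Agent.Lib.Helper2.HNBig.C420
import Cfsg.Agent.Lib.Helper2.HNBig.C421
import Cfsg.Agent.Lib.Helper2.HNBig.C422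
import Cfsg.Agent.Lib.Helper2.HNBig.C423
import Cfsg.Agent.Lib.Helper2.HNBig.C424
import Cfsg.Agent.Lib.Helper2.HNBig.C425
set_option autoImplicit false
set_option maxRecDepth 1000000
set_option Elab.async false
open Cfsg.Agent.Lib.Helper6.TC
namespace Cfsg.Agent.Lib.Helper2.HNBig
theorem chkQ9_s0 : allR (fun p => Nat.beq (Q9 p) (U9 p)) 0 117640 = true :=
  allR_of_chain _ 0 117640 [(0, 5882), (5882, 5882), (11764, 5882), (17646, 5882), (23528, 5882), (29410, 5882), (35292, 5882), (41174, 5882), (47056, 5882), (52938, 5882), (58820, 5882), (64702, 5882), (70584, 5882), (76466, 5882), (82348, 5882), (88230, 5882), (94112, 5882), (99994, 5882), (105876, 5882), (111758, 5882)] (by decide) (by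
    intro c hc
    simp only [List.mem_cons, List.mem_nil_iff, or_false] at hc
    rcases hc with rfl | rfl | rfl | rfl | rfl | rfl | rfl | rfl | rfl | rfl | rfl | rfl | rfl | rfl | rfl | rfl | rfl | rfl | rfl | rfl
    · exact chkQ9_r0
    · exact chkQ9_r1
    · exact chkQ9_r2
    · exact chkQ9_r3
    · exact chkQ9_r4
    · exact chkQ9_r5
    · exact chkQ9_r6
    · exact chkQ9_r7
    · exact chkQ9_r8
    · exact chkQ9_r9
    · exact chkQ9_r10
    · exact chkQ9_r11
    · exact chkQ9_r12
    · exact chkQ9_r13
    · exact chkQ9_r14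
    · exact chkQ9_r15
    · exact chkQ9_r16
    · exact chkQ9_r17
    · exact chkQ9_r18
    · exact chkQ9_r19)
theorem chkQ9_s1 : allR (fun p => Nat.beq (Q9 p) (U9 p)) 117640 117640 = true :=
  allR_of_chain _ 117640 117640 [(117640, 5882), (123522, 5882), (129404, 5882), (135286, 5882), (141168, 5882), (147050, 5882), (152932, 5882), (158814, 5882), (164696, 5882), (170578, 5882), (176460, 5882), (182342, 5882), (188224, 5882), (194106, 5882), (199988, 5882), (205870, 5882), (211752, 5882), (217634, 5882), (223516, 5882), (229398, 5882)] (by decide) (by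
    intro c hc
    simp only [List.mem_cons, List.mem_nil_iff, or_false] at hc
    rcases hc with rfl | rfl | rfl | rfl | rfl | rfl | rfl | rfl | rfl | rfl | rfl | rfl | rfl | rfl | rfl | rfl | rfl | rfl | rfl | rfl
    · exact chkQ9_r20
    · exact chkQ9_r21
    · exact chkQ9_r22
    · exact chkQ9_r23
    · exact chkQ9_r24
    · exact chkQ9_r25
    · exact chkQ9_r26
    · exact chkQ9_r27
    · exact chkQ9_r28
    · exact chkQ9_r29
    · exact chkQ9_r30
    · exact chkQ9_r31
    · exact chkQ9_r32
    · exact chkQ9_r33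
    · exact chkQ9_r34
    · exact chkQ9_r35
    · exact chkQ9_r36
    · exact chkQ9_r37
    · exact chkQ9_r38
    · exact chkQ9_r39)
theorem chkQ9_s2 : allR (fun p => Nat.beq (Q9 p) (U9 p)) 235280 117640 = true :=
  allR_of_chain _ 235280 117640 [(235280, 5882), (241162, 5882), (247044, 5882), (252926, 5882), (258808, 5882), (264690, 5882), (270572, 5882), (276454, 5882), (282336, 5882), (288218, 5882), (294100, 5882), (299982, 5882), (305864, 5882), (311746, 5882), (317628, 5882), (323510, 5882), (329392, 5882), (335274, 5882), (341156, 5882), (347038, 5882)] (by decide) (by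
    intro c hc
    simp only [List.mem_cons, List.mem_nil_iff, or_false] at hc
    rcases hc with rfl | rfl | rfl | rfl | rfl | rfl | rfl | rfl | rfl | rfl | rfl | rfl | rfl | rfl | rfl | rfl | rfl | rfl | rfl | rfl
    · exact chkQ9_r40
    · exact chkQ9_r41
    · exact chkQ9_r42
    · exact chkQ9_r43
    · exact chkQ9_r44
    · exact chkQ9_r45
    · exact chkQ9_r46
    · exact chkQ9_r47
    · exact chkQ9_r48
    · exact chkQ9_r49
    · exact chkQ9_r50
    · exact chkQ9_r51
    · exact chkQ9_r52
    · exact chkQ9_r53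
    · exact chkQ9_r54
    · exact chkQ9_r55
    · exact chkQ9_r56
    · exact chkQ9_r57
    · exact chkQ9_r58
    · exact chkQ9_r59)
theorem chkQ9_s3 : allR (fun p => Nat.beq (Q9 p) (U9 p)) 352920 117640 = true :=
  allR_of_chain _ 352920 117640 [(352920, 5882), (358802, 5882), (364684, 5882), (370566, 5882), (376448, 5882), (382330, 5882), (388212, 5882), (394094, 5882), (399976, 5882), (405858, 5882), (411740, 5882), (417622, 5882), (423504, 5882), (429386, 5882), (435268, 5882), (441150, 5882), (447032, 5882), (452914, 5882), (458796, 5882), (464678, 5882)] (by decide) (by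
    intro c hc
    simp only [List.mem_cons, List.mem_nil_iff, or_false] at hc
    rcases hc with rfl | rfl | rfl | rfl | rfl | rfl | rfl | rfl | rfl | rfl | rfl | rfl | rfl | rfl | rfl | rfl | rfl | rfl | rfl | rfl
    · exact chkQ9_r60
    · exact chkQ9_r61
    · exact chkQ9_r62
    · exact chkQ9_r63
    · exact chkQ9_r64
    · exact chkQ9_r65
    · exact chkQ9_r66
    · exact chkQ9_r67
    · exact chkQ9_r68
    · exact chkQ9_r69
    · exact chkQ9_r70
    · exact chkQ9_r71
    · exact chkQ9_r72
    · exact chkQ9_r73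
    · exact chkQ9_r74
    · exact chkQ9_r75
    · exact chkQ9_r76
    · exact chkQ9_r77
    · exact chkQ9_r78
    · exact chkQ9_r79)
theorem chkQ9_s4 : allR (fun p => Nat.beq (Q9 p) (U9 p)) 470560 117640 = true :=
  allR_of_chain _ 470560 117640 [(470560, 5882), (476442, 5882), (482324, 5882), (488206, 5882), (494088, 5882), (499970, 5882), (505852, 5882), (511734, 5882), (517616, 5882), (523498, 5882), (529380, 5882), (535262, 5882), (541144, 5882), (547026, 5882), (552908, 5882), (558790, 5882), (564672, 5882), (570554, 5882), (576436, 5882), (582318, 5882)] (by decide) (by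
    intro c hc
    simp only [List.mem_cons, List.mem_nil_iff, or_false] at hc
    rcases hc with rfl | rfl | rfl | rfl | rfl | rfl | rfl | rfl | rfl | rfl | rfl | rfl | rfl | rfl | rfl | rfl | rfl | rfl | rfl | rfl
    · exact chkQ9_r80
    · exact chkQ9_r81
    · exact chkQ9_r82
    · exact chkQ9_r83
    · exact chkQ9_r84
    · exact chkQ9_r85
    · exact chkQ9_r86
    · exact chkQ9_r87
    · exact chkQ9_r88
    · exact chkQ9_r89
    · exact chkQ9_r90
    · exact chkQ9_r91
    · exact chkQ9_r92
    · exact chkQ9_r93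
    · exact chkQ9_r94
    · exact chkQ9_r95
    · exact chkQ9_r96
    · exact chkQ9_r97
    · exact chkQ9_r98
    · exact chkQ9_r99)
theorem chkQ9_s5 : allR (fun p => Nat.beq (Q9 p) (U9 p)) 588200 117640 = true :=
  allR_of_chain _ 588200 117640 [(588200, 5882), (594082, 5882), (599964, 5882), (605846, 5882), (611728, 5882), (617610, 5882), (623492, 5882), (629374, 5882), (635256, 5882), (641138, 5882), (647020, 5882), (652902, 5882), (658784, 5882), (664666, 5882), (670548, 5882), (676430, 5882), (682312, 5882), (688194, 5882), (694076, 5882), (699958, 5882)] (by decide) (by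
    intro c hc
    simp only [List.mem_cons, List.mem_nil_iff, or_false] at hc
    rcases hc with rfl | rfl | rfl | rfl | rfl | rfl | rfl | rfl | rfl | rfl | rfl | rfl | rfl | rfl | rfl | rfl | rfl | rfl | rfl | rfl
    · exact chkQ9_r100
    · exact chkQ9_r101
    · exact chkQ9_r102
    · exact chkQ9_r103
    · exact chkQ9_r104
    · exact chkQ9_r105
    · exact chkQ9_r106
    · exact chkQ9_r107
    · exact chkQ9_r108
    · exact chkQ9_r109
    · exact chkQ9_r110
    · exact chkQ9_r111
    · exact chkQ9_r112
    · exact chkQ9_r113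
    · exact chkQ9_r114
    · exact chkQ9_r115
    · exact chkQ9_r116
    · exact chkQ9_r117
    · exact chkQ9_r118
    · exact chkQ9_r119)
theorem chkQ9_s6 : allR (fun p => Nat.beq (Q9 p) (U9 p)) 705840 117640 = true :=
  allR_of_chain _ 705840 117640 [(705840, 5882), (711722, 5882), (717604, 5882), (723486, 5882), (729368, 5882), (735250, 5882), (741132, 5882), (747014, 5882), (752896, 5882), (758778, 5882), (764660, 5882), (770542, 5882), (776424, 5882), (782306, 5882), (788188, 5882), (794070, 5882), (799952, 5882), (805834, 5882), (811716, 5882), (817598, 5882)] (by decide) (by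
    intro c hc
    simp only [List.mem_cons, List.mem_nil_iff, or_false] at hc
    rcases hc with rfl | rfl | rfl | rfl | rfl | rfl | rfl | rfl | rfl | rfl | rfl | rfl | rfl | rfl | rfl | rfl | rfl | rfl | rfl | rfl
    · exact chkQ9_r120
    · exact chkQ9_r121
    · exact chkQ9_r122
    · exact chkQ9_r123
    · exact chkQ9_r124
    · exact chkQ9_r125
    · exact chkQ9_r126
    · exact chkQ9_r127
    · exact chkQ9_r128
    · exact chkQ9_r129
    · exact chkQ9_r130
    · exact chkQ9_r131
    · exact chkQ9_r132
    · exact chkQ9_r133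
    · exact chkQ9_r134
    · exact chkQ9_r135
    · exact chkQ9_r136
    · exact chkQ9_r137
    · exact chkQ9_r138
    · exact chkQ9_r139)
theorem chkQ9_s7 : allR (fun p => Nat.beq (Q9 p) (U9 p)) 823480 117640 = true :=
  allR_of_chain _ 823480 117640 [(823480, 5882), (829362, 5882), (835244, 5882), (841126, 5882), (847008, 5882), (852890, 5882), (858772, 5882), (864654, 5882), (870536, 5882), (876418, 5882), (882300, 5882), (888182, 5882), (894064, 5882), (899946, 5882), (905828, 5882), (911710, 5882), (917592, 5882), (923474, 5882), (929356, 5882), (935238, 5882)] (by decide) (by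
    intro c hc
    simp only [List.mem_cons, List.mem_nil_iff, or_false] at hc
    rcases hc with rfl | rfl | rfl | rfl | rfl | rfl | rfl | rfl | rfl | rfl | rfl | rfl | rfl | rfl | rfl | rfl | rfl | rfl | rfl | rfl
    · exact chkQ9_r140
    · exact chkQ9_r141
    · exact chkQ9_r142
    · exact chkQ9_r143
    · exact chkQ9_r144
    · exact chkQ9_r145
    · exact chkQ9_r146
    · exact chkQ9_r147
    · exact chkQ9_r148
    · exact chkQ9_r149
    · exact chkQ9_r150
    · exact chkQ9_r151
    · exact chkQ9_r152
    · exact chkQ9_r153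
    · exact chkQ9_r154
    · exact chkQ9_r155
    · exact chkQ9_r156
    · exact chkQ9_r157
    · exact chkQ9_r158
    · exact chkQ9_r159)
theorem chkQ9_s8 : allR (fun p => Nat.beq (Q9 p) (U9 p)) 941120 117640 = true :=
  allR_of_chain _ 941120 117640 [(941120, 5882), (947002, 5882), (952884, 5882), (958766, 5882), (964648, 5882), (970530, 5882), (976412, 5882), (982294, 5882), (988176, 5882), (994058, 5882), (999940, 5882), (1005822, 5882), (1011704, 5882), (1017586, 5882), (1023468, 5882), (1029350, 5882), (1035232, 5882), (1041114, 5882), (1046996, 5882), (1052878, 5882)] (by decide) (by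
    intro c hc
    simp only [List.mem_cons, List.mem_nil_iff, or_false] at hc
    rcases hc with rfl | rfl | rfl | rfl | rfl | rfl | rfl | rfl | rfl | rfl | rfl | rfl | rfl | rfl | rfl | rfl | rfl | rfl | rfl | rfl
    · exact chkQ9_r160
    · exact chkQ9_r161
    · exact chkQ9_r162
    · exact chkQ9_r163
    · exact chkQ9_r164
    · exact chkQ9_r165
    · exact chkQ9_r166
    · exact chkQ9_r167
    · exact chkQ9_r168
    · exact chkQ9_r169
    · exact chkQ9_r170
    · exact chkQ9_r171
    · exact chkQ9_r172
    · exact chkQ9_r173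
    · exact chkQ9_r174
    · exact chkQ9_r175
    · exact chkQ9_r176
    · exact chkQ9_r177
    · exact chkQ9_r178
    · exact chkQ9_r179)
theorem chkQ9_s9 : allR (fun p => Nat.beq (Q9 p) (U9 p)) 1058760 117640 = true :=
  allR_of_chain _ 1058760 117640 [(1058760, 5882), (1064642, 5882), (1070524, 5882), (1076406, 5882), (1082288, 5882), (1088170, 5882), (1094052, 5882), (1099934, 5882), (1105816, 5882), (1111698, 5882), (1117580, 5882), (1123462, 5882), (1129344, 5882), (1135226, 5882), (1141108, 5882), (1146990, 5882), (1152872, 5882), (1158754, 5882), (1164636, 5882), (1170518, 5882)] (by decide) (by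
    intro c hc
    simp only [List.mem_cons, List.mem_nil_iff, or_false] at hc
    rcases hc with rfl | rfl | rfl | rfl | rfl | rfl | rfl | rfl | rfl | rfl | rfl | rfl | rfl | rfl | rfl | rfl | rfl | rfl | rfl | rfl
    · exact chkQ9_r180
    · exact chkQ9_r181
    · exact chkQ9_r182
    · exact chkQ9_r183
    · exact chkQ9_r184
    · exact chkQ9_r185
    · exact chkQ9_r186
    · exact chkQ9_r187
    · exact chkQ9_r188
    · exact chkQ9_r189
    · exact chkQ9_r190
    · exact chkQ9_r191
    · exact chkQ9_r192
    · exact chkQ9_r193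
    · exact chkQ9_r194
    · exact chkQ9_r195
    · exact chkQ9_r196
    · exact chkQ9_r197
    · exact chkQ9_r198
    · exact chkQ9_r199)
theorem chkQ9_s10 : allR (fun p => Nat.beq (Q9 p) (U9 p)) 1176400 117640 = true :=
  allR_of_chain _ 1176400 117640 [(1176400, 5882), (1182282, 5882), (1188164, 5882), (1194046, 5882), (1199928, 5882), (1205810, 5882), (1211692, 5882), (1217574, 5882), (1223456, 5882), (1229338, 5882), (1235220, 5882), (1241102, 5882), (1246984, 5882), (1252866, 5882), (1258748, 5882), (1264630, 5882), (1270512, 5882), (1276394, 5882), (1282276, 5882), (1288158, 5882)] (by decide) (by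
    intro c hc
    simp only [List.mem_cons, List.mem_nil_iff, or_false] at hc
    rcases hc with rfl | rfl | rfl | rfl | rfl | rfl | rfl | rfl | rfl | rfl | rfl | rfl | rfl | rfl | rfl | rfl | rfl | rfl | rfl | rfl
    · exact chkQ9_r200
    · exact chkQ9_r201
    · exact chkQ9_r202
    · exact chkQ9_r203
    · exact chkQ9_r204
    · exact chkQ9_r205
    · exact chkQ9_r206
    · exact chkQ9_r207
    · exact chkQ9_r208
    · exact chkQ9_r209
    · exact chkQ9_r210
    · exact chkQ9_r211
    · exact chkQ9_r212
    · exact chkQ9_r213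
    · exact chkQ9_r214
    · exact chkQ9_r215
    · exact chkQ9_r216
    · exact chkQ9_r217
    · exact chkQ9_r218
    · exact chkQ9_r219)
theorem chkQ9_s11 : allR (fun p => Nat.beq (Q9 p) (U9 p)) 1294040 117640 = true :=
  allR_of_chain _ 1294040 117640 [(1294040, 5882), (1299922, 5882), (1305804, 5882), (1311686, 5882), (1317568, 5882), (1323450, 5882), (1329332, 5882), (1335214, 5882), (1341096, 5882), (1346978, 5882), (1352860, 5882), (1358742, 5882), (1364624, 5882), (1370506, 5882), (1376388, 5882), (1382270, 5882), (1388152, 5882), (1394034, 5882), (1399916, 5882), (1405798, 5882)] (by decide) (by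
    intro c hc
    simp only [List.mem_cons, List.mem_nil_iff, or_false] at hc
    rcases hc with rfl | rfl | rfl | rfl | rfl | rfl | rfl | rfl | rfl | rfl | rfl | rfl | rfl | rfl | rfl | rfl | rfl | rfl | rfl | rfl
    · exact chkQ9_r220
    · exact chkQ9_r221
    · exact chkQ9_r222
    · exact chkQ9_r223
    · exact chkQ9_r224
    · exact chkQ9_r225
    · exact chkQ9_r226
    · exact chkQ9_r227
    · exact chkQ9_r228
    · exact chkQ9_r229
    · exact chkQ9_r230
    · exact chkQ9_r231
    · exact chkQ9_r232
    · exact chkQ9_r233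
    · exact chkQ9_r234
    · exact chkQ9_r235
    · exact chkQ9_r236
    · exact chkQ9_r237
    · exact chkQ9_r238
    · exact chkQ9_r239)
theorem chkQ9_s12 : allR (fun p => Nat.beq (Q9 p) (U9 p)) 1411680 117640 = true :=
  allR_of_chain _ 1411680 117640 [(1411680, 5882), (1417562, 5882), (1423444, 5882), (1429326, 5882), (1435208, 5882), (1441090, 5882), (1446972, 5882), (1452854, 5882), (1458736, 5882), (1464618, 5882), (1470500, 5882), (1476382, 5882), (1482264, 5882), (1488146, 5882), (1494028, 5882), (1499910, 5882), (1505792, 5882), (1511674, 5882), (1517556, 5882), (1523438, 5882)] (by decide) (by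
    intro c hc
    simp only [List.mem_cons, List.mem_nil_iff, or_false] at hc
    rcases hc with rfl | rfl | rfl | rfl | rfl | rfl | rfl | rfl | rfl | rfl | rfl | rfl | rfl | rfl | rfl | rfl | rfl | rfl | rfl | rfl
    · exact chkQ9_r240
    · exact chkQ9_r241
    · exact chkQ9_r242
    · exact chkQ9_r243
    · exact chkQ9_r244
    · exact chkQ9_r245
    · exact chkQ9_r246
    · exact chkQ9_r247
    · exact chkQ9_r248
    · exact chkQ9_r249
    · exact chkQ9_r250
    · exact chkQ9_r251
    · exact chkQ9_r252
    · exact chkQ9_r253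
    · exact chkQ9_r254
    · exact chkQ9_r255
    · exact chkQ9_r256
    · exact chkQ9_r257
    · exact chkQ9_r258
    · exact chkQ9_r259)
theorem chkQ9_s13 : allR (fun p => Nat.beq (Q9 p) (U9 p)) 1529320 9680 = true :=
  allR_of_chain _ 1529320 9680 [(1529320, 5882), (1535202, 3798)] (by decide) (by
    intro c hc
    simp only [List.mem_cons, List.mem_nil_iff, or_false] at hc
    rcases hc with rfl | rfl
    · exact chkQ9_r260
    · exact chkQ9_r261)
theorem chkQ9_all : allB (fun p => Nat.beq (Q9 p) (U9 p)) 1539000 = true :=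
  allB_of_chain _ 1539000 [(0, 117640), (117640, 117640), (235280, 117640), (352920, 117640), (470560, 117640), (588200, 117640), (705840, 117640), (823480, 117640), (941120, 117640), (1058760, 117640), (1176400, 117640), (1294040, 117640), (1411680, 117640), (1529320, 9680)] (by decide) (by
    intro c hc
    simp only [List.mem_cons, List.mem_nil_iff, or_false] at hc
    rcases hc with rfl | rfl | rfl | rfl | rfl | rfl | rfl | rfl | rfl | rfl | rfl | rfl | rfl | rfl
    · exact chkQ9_s0
    · exact chkQ9_s1
    · exact chkQ9_s2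
    · exact chkQ9_s3
    · exact chkQ9_s4
    · exact chkQ9_s5
    · exact chkQ9_s6
    · exact chkQ9_s7
    · exact chkQ9_s8
    · exact chkQ9_s9
    · exact chkQ9_s10
    · exact chkQ9_s11
    · exact chkQ9_s12
    · exact chkQ9_s13)
end Cfsg.Agent.Lib.Helper2.HNBig
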