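import Cfsg.Agent.Lib.Helper6.TC11
import Cfsg.Agent.Lib.Helper6.TC13
import Cfsg.Agent.Lib.Helper6.TC15
import Cfsg.Agent.Lib.Helper2.HNBig.C62
import Cfsg.Agent.Lib.Helper2.HNBig.C63
import Cfsg.Agent.Lib.Helper2.HNBig.C64
import Cfsg.Agent.Lib.Helper2.HNBig.C65
import Cfsg.Agent.Lib.Helper2.HNBig.C66
import Cfsg.Agent.Lib.Helper2.HNBig.C67
import Cfsg.Agent.Lib.Helper2.HNBig.C68
import Cfsg.Agent.Lib.Helper2.HNBig.C69
import Cfsg.Agent.Lib.Helper2.HNBig.C70
import Cfsg.Agent.Lib.Helper2.HNBig.C71
import Cfsg.Agent.Lib.Helper2.HNBig.C72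
import Cfsg.Agent.Lib.Helper2.HNBig.C73
import Cfsg.Agent.Lib.Helper2.HNBig.C74
import Cfsg.Agent.Lib.Helper2.HNBig.C75
import Cfsg.Agent.Lib.Helper2.HNBig.C76
import Cfsg.Agent.Lib.Helper2.HNBig.C77
import Cfsg.Agent.Lib.Helper2.HNBig.C78
import Cfsg.Agent.Lib.Helper2.HNBig.C79
import Cfsg.Agent.Lib.Helper2.HNBig.C80
import Cfsg.Agent.Lib.Helper2.HNBig.C81
import Cfsg.Agent.Lib.Helper2.HNBig.C82
import Cfsg.Agent.Lib.Helper2.HNBig.C83
import Cfsg.Agent.Lib.Helper2.HNBig.C84
import Cfsg.Agent.Lib.Helper2.HNBig.C85
set_option autoImplicit false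
set_option maxRecDepth 1000000
set_option Elab.async false
open Cfsg.Agent.Lib.Helper6.TC
namespace Cfsg.Agent.Lib.Helper2.HNBig
theorem chkR0_s0 : allR (fun p => Nat.beq (R0 p) p) 0 333320 = true :=
  allR_of_chain _ 0 333320 [(0, 16666), (16666, 16666), (33332, 16666), (49998, 16666), (66664, 16666), (83330, 16666), (99996, 16666), (116662, 16666), (133328, 16666), (149994, 16666), (166660, 16666), (183326, 16666), (199992, 16666), (216658, 16666), (233324, 16666), (249990, 16666), (266656, 16666), (283322, 16666), (299988, 16666), (316654, 16666)] (by decide) (by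
    intro c hc
    simp only [List.mem_cons, List.mem_nil_iff, or_false] at hc
    rcases hc with rfl | rfl | rfl | rfl | rfl | rfl | rfl | rfl | rfl | rfl | rfl | rfl | rfl | rfl | rfl | rfl | rfl | rfl | rfl | rfl
    · exact chkR0_r0
    · exact chkR0_r1
    · exact chkR0_r2
    · exact chkR0_r3
    · exact chkR0_r4
    · exact chkR0_r5
    · exact chkR0_r6
    · exact chkR0_r7
    · exact chkR0_r8
    · exact chkR0_r9
    · exact chkR0_r10
    · exact chkR0_r11
    · exact chkR0_r12
    · exact chkR0_r13
    · exact chkR0_r14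
    · exact chkR0_r15
    · exact chkR0_r16
    · exact chkR0_r17
    · exact chkR0_r18
    · exact chkR0_r19)
theorem chkR0_s1 : allR (fun p => Nat.beq (R0 p) p) 333320 333320 = true :=
  allR_of_chain _ 333320 333320 [(333320, 16666), (349986, 16666), (366652, 16666), (383318, 16666), (399984, 16666), (416650, 16666), (433316, 16666), (449982, 16666), (466648, 16666), (483314, 16666), (499980, 16666), (516646, 16666), (533312, 16666), (549978, 16666), (566644, 16666), (583310, 16666), (599976, 16666), (616642, 16666), (633308, 16666), (649974, 16666)] (by decide) (by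
    intro c hc
    simp only [List.mem_cons, List.mem_nil_iff, or_false] at hc
    rcases hc with rfl | rfl | rfl | rfl | rfl | rfl | rfl | rfl | rfl | rfl | rfl | rfl | rfl | rfl | rfl | rfl | rfl | rfl | rfl | rfl
    · exact chkR0_r20
    · exact chkR0_r21
    · exact chkR0_r22
    · exact chkR0_r23
    · exact chkR0_r24
    · exact chkR0_r25
    · exact chkR0_r26
    · exact chkR0_r27
    · exact chkR0_r28
    · exact chkR0_r29
    · exact chkR0_r30
    · exact chkR0_r31
    · exact chkR0_r32
    · exact chkR0_r33
    · exact chkR0_r34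
    · exact chkR0_r35
    · exact chkR0_r36
    · exact chkR0_r37
    · exact chkR0_r38
    · exact chkR0_r39)
theorem chkR0_s2 : allR (fun p => Nat.beq (R0 p) p) 666640 333320 = true :=
  allR_of_chain _ 666640 333320 [(666640, 16666), (683306, 16666), (699972, 16666), (716638, 16666), (733304, 16666), (749970, 16666), (766636, 16666), (783302, 16666), (799968, 16666), (816634, 16666), (833300, 16666), (849966, 16666), (866632, 16666), (883298, 16666), (899964, 16666), (916630, 16666), (933296, 16666), (949962, 16666), (966628, 16666), (983294, 16666)] (by decide) (by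
    intro c hc
    simp only [List.mem_cons, List.mem_nil_iff, or_false] at hc
    rcases hc with rfl | rfl | rfl | rfl | rfl | rfl | rfl | rfl | rfl | rfl | rfl | rfl | rfl | rfl | rfl | rfl | rfl | rfl | rfl | rfl
    · exact chkR0_r40
    · exact chkR0_r41
    · exact chkR0_r42
    · exact chkR0_r43
    · exact chkR0_r44
    · exact chkR0_r45
    · exact chkR0_r46
    · exact chkR0_r47
    · exact chkR0_r48
    · exact chkR0_r49
    · exact chkR0_r50
    · exact chkR0_r51
    · exact chkR0_r52
    · exact chkR0_r53
    · exact chkR0_r54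
    · exact chkR0_r55
    · exact chkR0_r56
    · exact chkR0_r57
    · exact chkR0_r58
    · exact chkR0_r59)
theorem chkR0_s3 : allR (fun p => Nat.beq (R0 p) p) 999960 333320 = true :=
  allR_of_chain _ 999960 333320 [(999960, 16666), (1016626, 16666), (1033292, 16666), (1049958, 16666), (1066624, 16666), (1083290, 16666), (1099956, 16666), (1116622, 16666), (1133288, 16666), (1149954, 16666), (1166620, 16666), (1183286, 16666), (1199952, 16666), (1216618, 16666), (1233284, 16666), (1249950, 16666), (1266616, 16666), (1283282, 16666), (1299948, 16666), (1316614, 16666)] (by decide) (by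
    intro c hc
    simp only [List.mem_cons, List.mem_nil_iff, or_false] at hc
    rcases hc with rfl | rfl | rfl | rfl | rfl | rfl | rfl | rfl | rfl | rfl | rfl | rfl | rfl | rfl | rfl | rfl | rfl | rfl | rfl | rfl
    · exact chkR0_r60
    · exact chkR0_r61
    · exact chkR0_r62
    · exact chkR0_r63
    · exact chkR0_r64
    · exact chkR0_r65
    · exact chkR0_r66
    · exact chkR0_r67
    · exact chkR0_r68
    · exact chkR0_r69
    · exact chkR0_r70
    · exact chkR0_r71
    · exact chkR0_r72
    · exact chkR0_r73
    · exact chkR0_r74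
    · exact chkR0_r75
    · exact chkR0_r76
    · exact chkR0_r77
    · exact chkR0_r78
    · exact chkR0_r79)
theorem chkR0_s4 : allR (fun p => Nat.beq (R0 p) p) 1333280 205720 = true :=
  allR_of_chain _ 1333280 205720 [(1333280, 16666), (1349946, 16666), (1366612, 16666), (1383278, 16666), (1399944, 16666), (1416610, 16666), (1433276, 16666), (1449942, 16666), (1466608, 16666), (1483274, 16666), (1499940, 16666), (1516606, 16666), (1533272, 5728)] (by decide) (by
    intro c hc
    simp only [List.mem_cons, List.mem_nil_iff, or_false] at hc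
    rcases hc with rfl | rfl | rfl | rfl | rfl | rfl | rfl | rfl | rfl | rfl | rfl | rfl | rfl
    · exact chkR0_r80
    · exact chkR0_r81
    · exact chkR0_r82
    · exact chkR0_r83
    · exact chkR0_r84
    · exact chkR0_r85
    · exact chkR0_r86
    · exact chkR0_r87
    · exact chkR0_r88
    · exact chkR0_r89
    · exact chkR0_r90
    · exact chkR0_r91
    · exact chkR0_r92)
theorem chkR0_all : allB (fun p => Nat.beq (R0 p) p) 1539000 = true :=
  allB_of_chain _ 1539000 [(0, 333320), (333320, 333320), (666640, 333320), (999960, 333320), (1333280, 205720)] (by decide) (by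
    intro c hc
    simp only [List.mem_cons, List.mem_nil_iff, or_false] at hc
    rcases hc with rfl | rfl | rfl | rfl | rfl
    · exact chkR0_s0
    · exact chkR0_s1
    · exact chkR0_s2
    · exact chkR0_s3
    · exact chkR0_s4)
end Cfsg.Agent.Lib.Helper2.HNBig
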