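import Cfsg.Agent.Lib.Helper6.TC11
import Cfsg.Agent.Lib.Helper6.TC13
import Cfsg.Agent.Lib.Helper2.HNBig.Par
set_option autoImplicit false
set_option maxRecDepth 1000000
set_option Elab.async false
open Cfsg.Agent.Lib.Helper6.TC
namespace Cfsg.Agent.Lib.Helper2.HNBig
theorem chkR11_r63 : allR (fun p => Nat.beq (R11 p) p) 1260000 20000 = true := by decide +kernel
theorem chkR11_r64 : allR (fun p => Nat.beq (R11 p) p) 1280000 20000 = true := by decide +kernel
theorem chkR11_r65 : allR (fun p => Nat.beq (R11 p) p) 1300000 20000 = true := by decide +kernel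
theorem chkR11_r66 : allR (fun p => Nat.beq (R11 p) p) 1320000 20000 = true := by decide +kernel
end Cfsg.Agent.Lib.Helper2.HNBig
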