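import Cfsg.Agent.Lib.Helper6.TC11
import Cfsg.Agent.Lib.Helper6.TC13
import Cfsg.Agent.Lib.Helper6.TC15
import Cfsg.Agent.Lib.Helper2.HNBig.C170
import Cfsg.Agent.Lib.Helper2.HNBig.C171
import Cfsg.Agent.Lib.Helper2.HNBig.C172
import Cfsg.Agent.Lib.Helper2.HNBig.C173
import Cfsg.Agent.Lib.Helper2.HNBig.C174
import Cfsg.Agent.Lib.Helper2.HNBig.C175
import Cfsg.Agent.Lib.Helper2.HNBig.C176
import Cfsg.Agent.Lib.Helper2.HNBig.C177
import Cfsg.Agent.Lib.Helper2.HNBig.C178
import Cfsg.Agent.Lib.Helper2.HNBig.C179
import Cfsg.Agent.Lib.Helper2.HNBig.C180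
import Cfsg.Agent.Lib.Helper2.HNBig.C181
import Cfsg.Agent.Lib.Helper2.HNBig.C182
set_option autoImplicit false
set_option maxRecDepth 1000000
set_option Elab.async false
open Cfsg.Agent.Lib.Helper6.TC
namespace Cfsg.Agent.Lib.Helper2.HNBig
theorem chkR3_s0 : allR (fun p => Nat.beq (R3 p) p) 0 666660 = true :=
  allR_of_chain _ 0 666660 [(0, 33333), (33333, 33333), (66666, 33333), (99999, 33333), (133332, 33333), (166665, 33333), (199998, 33333), (233331, 33333), (266664, 33333), (299997, 33333), (333330, 33333), (366663, 33333), (399996, 33333), (433329, 33333), (466662, 33333), (499995, 33333), (533328, 33333), (566661, 33333), (599994, 33333), (633327, 33333)] (by decide) (by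
    intro c hc
    simp only [List.mem_cons, List.mem_nil_iff, or_false] at hc
    rcases hc with rfl | rfl | rfl | rfl | rfl | rfl | rfl | rfl | rfl | rfl | rfl | rfl | rfl | rfl | rfl | rfl | rfl | rfl | rfl | rfl
    · exact chkR3_r0
    · exact chkR3_r1
    · exact chkR3_r2
    · exact chkR3_r3
    · exact chkR3_r4
    · exact chkR3_r5
    · exact chkR3_r6
    · exact chkR3_r7
    · exact chkR3_r8
    · exact chkR3_r9
    · exact chkR3_r10
    · exact chkR3_r11
    · exact chkR3_r12
    · exact chkR3_r13
    · exact chkR3_r14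
    · exact chkR3_r15
    · exact chkR3_r16
    · exact chkR3_r17
    · exact chkR3_r18
    · exact chkR3_r19)
theorem chkR3_s1 : allR (fun p => Nat.beq (R3 p) p) 666660 666660 = true :=
  allR_of_chain _ 666660 666660 [(666660, 33333), (699993, 33333), (733326, 33333), (766659, 33333), (799992, 33333), (833325, 33333), (866658, 33333), (899991, 33333), (933324, 33333), (966657, 33333), (999990, 33333), (1033323, 33333), (1066656, 33333), (1099989, 33333), (1133322, 33333), (1166655, 33333), (1199988, 33333), (1233321, 33333), (1266654, 33333), (1299987, 33333)] (by decide) (by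
    intro c hc
    simp only [List.mem_cons, List.mem_nil_iff, or_false] at hc
    rcases hc with rfl | rfl | rfl | rfl | rfl | rfl | rfl | rfl | rfl | rfl | rfl | rfl | rfl | rfl | rfl | rfl | rfl | rfl | rfl | rfl
    · exact chkR3_r20
    · exact chkR3_r21
    · exact chkR3_r22
    · exact chkR3_r23
    · exact chkR3_r24
    · exact chkR3_r25
    · exact chkR3_r26
    · exact chkR3_r27
    · exact chkR3_r28
    · exact chkR3_r29
    · exact chkR3_r30
    · exact chkR3_r31
    · exact chkR3_r32
    · exact chkR3_r33
    · exact chkR3_r34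
    · exact chkR3_r35
    · exact chkR3_r36
    · exact chkR3_r37
    · exact chkR3_r38
    · exact chkR3_r39)
theorem chkR3_s2 : allR (fun p => Nat.beq (R3 p) p) 1333320 205680 = true :=
  allR_of_chain _ 1333320 205680 [(1333320, 33333), (1366653, 33333), (1399986, 33333), (1433319, 33333), (1466652, 33333), (1499985, 33333), (1533318, 5682)] (by decide) (by
    intro c hc
    simp only [List.mem_cons, List.mem_nil_iff, or_false] at hc
    rcases hc with rfl | rfl | rfl | rfl | rfl | rfl | rfl
    · exact chkR3_r40
    · exact chkR3_r41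
    · exact chkR3_r42
    · exact chkR3_r43
    · exact chkR3_r44
    · exact chkR3_r45
    · exact chkR3_r46)
theorem chkR3_all : allB (fun p => Nat.beq (R3 p) p) 1539000 = true :=
  allB_of_chain _ 1539000 [(0, 666660), (666660, 666660), (1333320, 205680)] (by decide) (by
    intro c hc
    simp only [List.mem_cons, List.mem_nil_iff, or_false] at hc
    rcases hc with rfl | rfl | rfl
    · exact chkR3_s0
    · exact chkR3_s1
    · exact chkR3_s2)
end Cfsg.Agent.Lib.Helper2.HNBig
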