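import Cfsg.Agent.Lib.Helper6.TC11
import Cfsg.Agent.Lib.Helper6.TC13
import Cfsg.Agent.Lib.Helper6.TC15
import Cfsg.Agent.Lib.Helper2.HNBig.C194
import Cfsg.Agent.Lib.Helper2.HNBig.C195
import Cfsg.Agent.Lib.Helper2.HNBig.C196
import Cfsg.Agent.Lib.Helper2.HNBig.C197
import Cfsg.Agent.Lib.Helper2.HNBig.C198
import Cfsg.Agent.Lib.Helper2.HNBig.C199
import Cfsg.Agent.Lib.Helper2.HNBig.C200
import Cfsg.Agent.Lib.Helper2.HNBig.C201
import Cfsg.Agent.Lib.Helper2.HNBig.C202
import Cfsg.Agent.Lib.Helper2.HNBig.C203
import Cfsg.Agent.Lib.Helper2.HNBig.C204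
import Cfsg.Agent.Lib.Helper2.HNBig.C205
import Cfsg.Agent.Lib.Helper2.HNBig.C206
import Cfsg.Agent.Lib.Helper2.HNBig.C207
import Cfsg.Agent.Lib.Helper2.HNBig.C208
import Cfsg.Agent.Lib.Helper2.HNBig.C209
import Cfsg.Agent.Lib.Helper2.HNBig.C210
import Cfsg.Agent.Lib.Helper2.HNBig.C211
import Cfsg.Agent.Lib.Helper2.HNBig.C212
import Cfsg.Agent.Lib.Helper2.HNBig.C213
import Cfsg.Agent.Lib.Helper2.HNBig.C214
import Cfsg.Agent.Lib.Helper2.HNBig.C215
import Cfsg.Agent.Lib.Helper2.HNBig.C216
import Cfsg.Agent.Lib.Helper2.HNBig.C217
import Cfsg.Agent.Lib.Helper2.HNBig.C218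
import Cfsg.Agent.Lib.Helper2.HNBig.C219
import Cfsg.Agent.Lib.Helper2.HNBig.C220
import Cfsg.Agent.Lib.Helper2.HNBig.C221
import Cfsg.Agent.Lib.Helper2.HNBig.C222
import Cfsg.Agent.Lib.Helper2.HNBig.C223
import Cfsg.Agent.Lib.Helper2.HNBig.C224
set_option autoImplicit false
set_option maxRecDepth 1000000
set_option Elab.async false
open Cfsg.Agent.Lib.Helper6.TC
namespace Cfsg.Agent.Lib.Helper2.HNBig
theorem chkR4_s0 : allR (fun p => Nat.beq (R4 p) p) 0 250000 = true :=
  allR_of_chain _ 0 250000 [(0, 12500), (12500, 12500), (25000, 12500), (37500, 12500), (50000, 12500), (62500, 12500), (75000, 12500), (87500, 12500), (100000, 12500), (112500, 12500), (125000, 12500), (137500, 12500), (150000, 12500), (162500, 12500), (175000, 12500), (187500, 12500), (200000, 12500), (212500, 12500), (225000, 12500), (237500, 12500)] (by decide) (by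
    intro c hc
    simp only [List.mem_cons, List.mem_nil_iff, or_false] at hc
    rcases hc with rfl | rfl | rfl | rfl | rfl | rfl | rfl | rfl | rfl | rfl | rfl | rfl | rfl | rfl | rfl | rfl | rfl | rfl | rfl | rfl
    · exact chkR4_r0
    · exact chkR4_r1
    · exact chkR4_r2
    · exact chkR4_r3
    · exact chkR4_r4
    · exact chkR4_r5
    · exact chkR4_r6
    · exact chkR4_r7
    · exact chkR4_r8
    · exact chkR4_r9
    · exact chkR4_r10
    · exact chkR4_r11
    · exact chkR4_r12
    · exact chkR4_r13
    · exact chkR4_r14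
    · exact chkR4_r15
    · exact chkR4_r16
    · exact chkR4_r17
    · exact chkR4_r18
    · exact chkR4_r19)
theorem chkR4_s1 : allR (fun p => Nat.beq (R4 p) p) 250000 250000 = true :=
  allR_of_chain _ 250000 250000 [(250000, 12500), (262500, 12500), (275000, 12500), (287500, 12500), (300000, 12500), (312500, 12500), (325000, 12500), (337500, 12500), (350000, 12500), (362500, 12500), (375000, 12500), (387500, 12500), (400000, 12500), (412500, 12500), (425000, 12500), (437500, 12500), (450000, 12500), (462500, 12500), (475000, 12500), (487500, 12500)] (by decide) (by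
    intro c hc
    simp only [List.mem_cons, List.mem_nil_iff, or_false] at hc
    rcases hc with rfl | rfl | rfl | rfl | rfl | rfl | rfl | rfl | rfl | rfl | rfl | rfl | rfl | rfl | rfl | rfl | rfl | rfl | rfl | rfl
    · exact chkR4_r20
    · exact chkR4_r21
    · exact chkR4_r22
    · exact chkR4_r23
    · exact chkR4_r24
    · exact chkR4_r25
    · exact chkR4_r26
    · exact chkR4_r27
    · exact chkR4_r28
    · exact chkR4_r29
    · exact chkR4_r30
    · exact chkR4_r31
    · exact chkR4_r32
    · exact chkR4_r33
    · exact chkR4_r34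
    · exact chkR4_r35
    · exact chkR4_r36
    · exact chkR4_r37
    · exact chkR4_r38
    · exact chkR4_r39)
theorem chkR4_s2 : allR (fun p => Nat.beq (R4 p) p) 500000 250000 = true :=
  allR_of_chain _ 500000 250000 [(500000, 12500), (512500, 12500), (525000, 12500), (537500, 12500), (550000, 12500), (562500, 12500), (575000, 12500), (587500, 12500), (600000, 12500), (612500, 12500), (625000, 12500), (637500, 12500), (650000, 12500), (662500, 12500), (675000, 12500), (687500, 12500), (700000, 12500), (712500, 12500), (725000, 12500), (737500, 12500)] (by decide) (by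
    intro c hc
    simp only [List.mem_cons, List.mem_nil_iff, or_false] at hc
    rcases hc with rfl | rfl | rfl | rfl | rfl | rfl | rfl | rfl | rfl | rfl | rfl | rfl | rfl | rfl | rfl | rfl | rfl | rfl | rfl | rfl
    · exact chkR4_r40
    · exact chkR4_r41
    · exact chkR4_r42
    · exact chkR4_r43
    · exact chkR4_r44
    · exact chkR4_r45
    · exact chkR4_r46
    · exact chkR4_r47
    · exact chkR4_r48
    · exact chkR4_r49
    · exact chkR4_r50
    · exact chkR4_r51
    · exact chkR4_r52
    · exact chkR4_r53
    · exact chkR4_r54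
    · exact chkR4_r55
    · exact chkR4_r56
    · exact chkR4_r57
    · exact chkR4_r58
    · exact chkR4_r59)
theorem chkR4_s3 : allR (fun p => Nat.beq (R4 p) p) 750000 250000 = true :=
  allR_of_chain _ 750000 250000 [(750000, 12500), (762500, 12500), (775000, 12500), (787500, 12500), (800000, 12500), (812500, 12500), (825000, 12500), (837500, 12500), (850000, 12500), (862500, 12500), (875000, 12500), (887500, 12500), (900000, 12500), (912500, 12500), (925000, 12500), (937500, 12500), (950000, 12500), (962500, 12500), (975000, 12500), (987500, 12500)] (by decide) (by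
    intro c hc
    simp only [List.mem_cons, List.mem_nil_iff, or_false] at hc
    rcases hc with rfl | rfl | rfl | rfl | rfl | rfl | rfl | rfl | rfl | rfl | rfl | rfl | rfl | rfl | rfl | rfl | rfl | rfl | rfl | rfl
    · exact chkR4_r60
    · exact chkR4_r61
    · exact chkR4_r62
    · exact chkR4_r63
    · exact chkR4_r64
    · exact chkR4_r65
    · exact chkR4_r66
    · exact chkR4_r67
    · exact chkR4_r68
    · exact chkR4_r69
    · exact chkR4_r70
    · exact chkR4_r71
    · exact chkR4_r72
    · exact chkR4_r73
    · exact chkR4_r74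
    · exact chkR4_r75
    · exact chkR4_r76
    · exact chkR4_r77
    · exact chkR4_r78
    · exact chkR4_r79)
theorem chkR4_s4 : allR (fun p => Nat.beq (R4 p) p) 1000000 250000 = true :=
  allR_of_chain _ 1000000 250000 [(1000000, 12500), (1012500, 12500), (1025000, 12500), (1037500, 12500), (1050000, 12500), (1062500, 12500), (1075000, 12500), (1087500, 12500), (1100000, 12500), (1112500, 12500), (1125000, 12500), (1137500, 12500), (1150000, 12500), (1162500, 12500), (1175000, 12500), (1187500, 12500), (1200000, 12500), (1212500, 12500), (1225000, 12500), (1237500, 12500)] (by decide) (by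
    intro c hc
    simp only [List.mem_cons, List.mem_nil_iff, or_false] at hc
    rcases hc with rfl | rfl | rfl | rfl | rfl | rfl | rfl | rfl | rfl | rfl | rfl | rfl | rfl | rfl | rfl | rfl | rfl | rfl | rfl | rfl
    · exact chkR4_r80
    · exact chkR4_r81
    · exact chkR4_r82
    · exact chkR4_r83
    · exact chkR4_r84
    · exact chkR4_r85
    · exact chkR4_r86
    · exact chkR4_r87
    · exact chkR4_r88
    · exact chkR4_r89
    · exact chkR4_r90
    · exact chkR4_r91
    · exact chkR4_r92
    · exact chkR4_r93
    · exact chkR4_r94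
    · exact chkR4_r95
    · exact chkR4_r96
    · exact chkR4_r97
    · exact chkR4_r98
    · exact chkR4_r99)
theorem chkR4_s5 : allR (fun p => Nat.beq (R4 p) p) 1250000 250000 = true :=
  allR_of_chain _ 1250000 250000 [(1250000, 12500), (1262500, 12500), (1275000, 12500), (1287500, 12500), (1300000, 12500), (1312500, 12500), (1325000, 12500), (1337500, 12500), (1350000, 12500), (1362500, 12500), (1375000, 12500), (1387500, 12500), (1400000, 12500), (1412500, 12500), (1425000, 12500), (1437500, 12500), (1450000, 12500), (1462500, 12500), (1475000, 12500), (1487500, 12500)] (by decide) (by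
    intro c hc
    simp only [List.mem_cons, List.mem_nil_iff, or_false] at hc
    rcases hc with rfl | rfl | rfl | rfl | rfl | rfl | rfl | rfl | rfl | rfl | rfl | rfl | rfl | rfl | rfl | rfl | rfl | rfl | rfl | rfl
    · exact chkR4_r100
    · exact chkR4_r101
    · exact chkR4_r102
    · exact chkR4_r103
    · exact chkR4_r104
    · exact chkR4_r105
    · exact chkR4_r106
    · exact chkR4_r107
    · exact chkR4_r108
    · exact chkR4_r109
    · exact chkR4_r110
    · exact chkR4_r111
    · exact chkR4_r112
    · exact chkR4_r113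
    · exact chkR4_r114
    · exact chkR4_r115
    · exact chkR4_r116
    · exact chkR4_r117
    · exact chkR4_r118
    · exact chkR4_r119)
theorem chkR4_s6 : allR (fun p => Nat.beq (R4 p) p) 1500000 39000 = true :=
  allR_of_chain _ 1500000 39000 [(1500000, 12500), (1512500, 12500), (1525000, 12500), (1537500, 1500)] (by decide) (by
    intro c hc
    simp only [List.mem_cons, List.mem_nil_iff, or_false] at hc
    rcases hc with rfl | rfl | rfl | rfl
    · exact chkR4_r120
    · exact chkR4_r121
    · exact chkR4_r122
    · exact chkR4_r123)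
theorem chkR4_all : allB (fun p => Nat.beq (R4 p) p) 1539000 = true :=
  allB_of_chain _ 1539000 [(0, 250000), (250000, 250000), (500000, 250000), (750000, 250000), (1000000, 250000), (1250000, 250000), (1500000, 39000)] (by decide) (by
    intro c hc
    simp only [List.mem_cons, List.mem_nil_iff, or_false] at hc
    rcases hc with rfl | rfl | rfl | rfl | rfl | rfl | rfl
    · exact chkR4_s0
    · exact chkR4_s1
    · exact chkR4_s2
    · exact chkR4_s3
    · exact chkR4_s4
    · exact chkR4_s5
    · exact chkR4_s6)
end Cfsg.Agent.Lib.Helper2.HNBig
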