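import Cfsg.Agent.Lib.Helper6.TC11
import Cfsg.Agent.Lib.Helper6.TC13
import Cfsg.Agent.Lib.Helper2.HNBig.Par
set_option autoImplicit false
set_option maxRecDepth 1000000
set_option Elab.async false
open Cfsg.Agent.Lib.Helper6.TC
namespace Cfsg.Agent.Lib.Helper2.HNBig
theorem chkR5_r16 : allR (fun p => Nat.beq (R5 p) p) 400000 25000 = true := by decide +kernel
theorem chkR5_r17 : allR (fun p => Nat.beq (R5 p) p) 425000 25000 = true := by decide +kernel
theorem chkR5_r18 : allR (fun p => Nat.beq (R5 p) p) 450000 25000 = true := by decide +kernel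
theorem chkR5_r19 : allR (fun p => Nat.beq (R5 p) p) 475000 25000 = true := by decide +kernel
end Cfsg.Agent.Lib.Helper2.HNBig
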