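import Cfsg.Agent.Lib.Helper6.TC11
import Cfsg.Agent.Lib.Helper6.TC13
import Cfsg.Agent.Lib.Helper6.TC15
import Cfsg.Agent.Lib.Helper2.HNBig.C267
import Cfsg.Agent.Lib.Helper2.HNBig.C268
import Cfsg.Agent.Lib.Helper2.HNBig.C269
import Cfsg.Agent.Lib.Helper2.HNBig.C270
import Cfsg.Agent.Lib.Helper2.HNBig.C271
import Cfsg.Agent.Lib.Helper2.HNBig.C272
import Cfsg.Agent.Lib.Helper2.HNBig.C273
import Cfsg.Agent.Lib.Helper2.HNBig.C274
import Cfsg.Agent.Lib.Helper2.HNBig.C275
import Cfsg.Agent.Lib.Helper2.HNBig.C276
import Cfsg.Agent.Lib.Helper2.HNBig.C277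
import Cfsg.Agent.Lib.Helper2.HNBig.C278
import Cfsg.Agent.Lib.Helper2.HNBig.C279
import Cfsg.Agent.Lib.Helper2.HNBig.C280
import Cfsg.Agent.Lib.Helper2.HNBig.C281
import Cfsg.Agent.Lib.Helper2.HNBig.C282
set_option autoImplicit false
set_option maxRecDepth 1000000
set_option Elab.async false
open Cfsg.Agent.Lib.Helper6.TC
namespace Cfsg.Agent.Lib.Helper2.HNBig
theorem chkR7_s0 : allR (fun p => Nat.beq (R7 p) p) 0 500000 = true :=
  allR_of_chain _ 0 500000 [(0, 25000), (25000, 25000), (50000, 25000), (75000, 25000), (100000, 25000), (125000, 25000), (150000, 25000), (175000, 25000), (200000, 25000), (225000, 25000), (250000, 25000), (275000, 25000), (300000, 25000), (325000, 25000), (350000, 25000), (375000, 25000), (400000, 25000), (425000, 25000), (450000, 25000), (475000, 25000)] (by decide) (by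
    intro c hc
    simp only [List.mem_cons, List.mem_nil_iff, or_false] at hc
    rcases hc with rfl | rfl | rfl | rfl | rfl | rfl | rfl | rfl | rfl | rfl | rfl | rfl | rfl | rfl | rfl | rfl | rfl | rfl | rfl | rfl
    · exact chkR7_r0
    · exact chkR7_r1
    · exact chkR7_r2
    · exact chkR7_r3
    · exact chkR7_r4
    · exact chkR7_r5
    · exact chkR7_r6
    · exact chkR7_r7
    · exact chkR7_r8
    · exact chkR7_r9
    · exact chkR7_r10
    · exact chkR7_r11
    · exact chkR7_r12
    · exact chkR7_r13
    · exact chkR7_r14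
    · exact chkR7_r15
    · exact chkR7_r16
    · exact chkR7_r17
    · exact chkR7_r18
    · exact chkR7_r19)
theorem chkR7_s1 : allR (fun p => Nat.beq (R7 p) p) 500000 500000 = true :=
  allR_of_chain _ 500000 500000 [(500000, 25000), (525000, 25000), (550000, 25000), (575000, 25000), (600000, 25000), (625000, 25000), (650000, 25000), (675000, 25000), (700000, 25000), (725000, 25000), (750000, 25000), (775000, 25000), (800000, 25000), (825000, 25000), (850000, 25000), (875000, 25000), (900000, 25000), (925000, 25000), (950000, 25000), (975000, 25000)] (by decide) (by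
    intro c hc
    simp only [List.mem_cons, List.mem_nil_iff, or_false] at hc
    rcases hc with rfl | rfl | rfl | rfl | rfl | rfl | rfl | rfl | rfl | rfl | rfl | rfl | rfl | rfl | rfl | rfl | rfl | rfl | rfl | rfl
    · exact chkR7_r20
    · exact chkR7_r21
    · exact chkR7_r22
    · exact chkR7_r23
    · exact chkR7_r24
    · exact chkR7_r25
    · exact chkR7_r26
    · exact chkR7_r27
    · exact chkR7_r28
    · exact chkR7_r29
    · exact chkR7_r30
    · exact chkR7_r31
    · exact chkR7_r32
    · exact chkR7_r33
    · exact chkR7_r34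
    · exact chkR7_r35
    · exact chkR7_r36
    · exact chkR7_r37
    · exact chkR7_r38
    · exact chkR7_r39)
theorem chkR7_s2 : allR (fun p => Nat.beq (R7 p) p) 1000000 500000 = true :=
  allR_of_chain _ 1000000 500000 [(1000000, 25000), (1025000, 25000), (1050000, 25000), (1075000, 25000), (1100000, 25000), (1125000, 25000), (1150000, 25000), (1175000, 25000), (1200000, 25000), (1225000, 25000), (1250000, 25000), (1275000, 25000), (1300000, 25000), (1325000, 25000), (1350000, 25000), (1375000, 25000), (1400000, 25000), (1425000, 25000), (1450000, 25000), (1475000, 25000)] (by decide) (by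
    intro c hc
    simp only [List.mem_cons, List.mem_nil_iff, or_false] at hc
    rcases hc with rfl | rfl | rfl | rfl | rfl | rfl | rfl | rfl | rfl | rfl | rfl | rfl | rfl | rfl | rfl | rfl | rfl | rfl | rfl | rfl
    · exact chkR7_r40
    · exact chkR7_r41
    · exact chkR7_r42
    · exact chkR7_r43
    · exact chkR7_r44
    · exact chkR7_r45
    · exact chkR7_r46
    · exact chkR7_r47
    · exact chkR7_r48
    · exact chkR7_r49
    · exact chkR7_r50
    · exact chkR7_r51
    · exact chkR7_r52
    · exact chkR7_r53
    · exact chkR7_r54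
    · exact chkR7_r55
    · exact chkR7_r56
    · exact chkR7_r57
    · exact chkR7_r58
    · exact chkR7_r59)
theorem chkR7_s3 : allR (fun p => Nat.beq (R7 p) p) 1500000 39000 = true :=
  allR_of_chain _ 1500000 39000 [(1500000, 25000), (1525000, 14000)] (by decide) (by
    intro c hc
    simp only [List.mem_cons, List.mem_nil_iff, or_false] at hc
    rcases hc with rfl | rfl
    · exact chkR7_r60
    · exact chkR7_r61)
theorem chkR7_all : allB (fun p => Nat.beq (R7 p) p) 1539000 = true :=
  allB_of_chain _ 1539000 [(0, 500000), (500000, 500000), (1000000, 500000), (1500000, 39000)] (by decide) (by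
    intro c hc
    simp only [List.mem_cons, List.mem_nil_iff, or_false] at hc
    rcases hc with rfl | rfl | rfl | rfl
    · exact chkR7_s0
    · exact chkR7_s1
    · exact chkR7_s2
    · exact chkR7_s3)
end Cfsg.Agent.Lib.Helper2.HNBig
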