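import Cfsg.Agent.Lib.Helper6.TC11
import Cfsg.Agent.Lib.Helper6.TC13
import Cfsg.Agent.Lib.Helper6.TC15
import Cfsg.Agent.Lib.Helper2.HNBig.C283
import Cfsg.Agent.Lib.Helper2.HNBig.C284
import Cfsg.Agent.Lib.Helper2.HNBig.C285
import Cfsg.Agent.Lib.Helper2.HNBig.C286
import Cfsg.Agent.Lib.Helper2.HNBig.C287
import Cfsg.Agent.Lib.Helper2.HNBig.C288
import Cfsg.Agent.Lib.Helper2.HNBig.C289
import Cfsg.Agent.Lib.Helper2.HNBig.C290
import Cfsg.Agent.Lib.Helper2.HNBig.C291
import Cfsg.Agent.Lib.Helper2.HNBig.C292
import Cfsg.Agent.Lib.Helper2.HNBig.C293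
import Cfsg.Agent.Lib.Helper2.HNBig.C294
import Cfsg.Agent.Lib.Helper2.HNBig.C295
import Cfsg.Agent.Lib.Helper2.HNBig.C296
import Cfsg.Agent.Lib.Helper2.HNBig.C297
import Cfsg.Agent.Lib.Helper2.HNBig.C298
import Cfsg.Agent.Lib.Helper2.HNBig.C299
import Cfsg.Agent.Lib.Helper2.HNBig.C300
import Cfsg.Agent.Lib.Helper2.HNBig.C301
import Cfsg.Agent.Lib.Helper2.HNBig.C302
import Cfsg.Agent.Lib.Helper2.HNBig.C303
import Cfsg.Agent.Lib.Helper2.HNBig.C304
import Cfsg.Agent.Lib.Helper2.HNBig.C305
import Cfsg.Agent.Lib.Helper2.HNBig.C306
import Cfsg.Agent.Lib.Helper2.HNBig.C307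
import Cfsg.Agent.Lib.Helper2.HNBig.C308
import Cfsg.Agent.Lib.Helper2.HNBig.C309
import Cfsg.Agent.Lib.Helper2.HNBig.C310
import Cfsg.Agent.Lib.Helper2.HNBig.C311
import Cfsg.Agent.Lib.Helper2.HNBig.C312
import Cfsg.Agent.Lib.Helper2.HNBig.C313
import Cfsg.Agent.Lib.Helper2.HNBig.C314
import Cfsg.Agent.Lib.Helper2.HNBig.C315
import Cfsg.Agent.Lib.Helper2.HNBig.C316
import Cfsg.Agent.Lib.Helper2.HNBig.C317
import Cfsg.Agent.Lib.Helper2.HNBig.C318
import Cfsg.Agent.Lib.Helper2.HNBig.C319
import Cfsg.Agent.Lib.Helper2.HNBig.C320
import Cfsg.Agent.Lib.Helper2.HNBig.C321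
import Cfsg.Agent.Lib.Helper2.HNBig.C322
import Cfsg.Agent.Lib.Helper2.HNBig.C323
import Cfsg.Agent.Lib.Helper2.HNBig.C324
import Cfsg.Agent.Lib.Helper2.HNBig.C325
import Cfsg.Agent.Lib.Helper2.HNBig.C326
import Cfsg.Agent.Lib.Helper2.HNBig.C327
import Cfsg.Agent.Lib.Helper2.HNBig.C328
import Cfsg.Agent.Lib.Helper2.HNBig.C329
import Cfsg.Agent.Lib.Helper2.HNBig.C330
import Cfsg.Agent.Lib.Helper2.HNBig.C331
import Cfsg.Agent.Lib.Helper2.HNBig.C332
import Cfsg.Agent.Lib.Helper2.HNBig.C333
import Cfsg.Agent.Lib.Helper2.HNBig.C334
import Cfsg.Agent.Lib.Helper2.HNBig.C335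
import Cfsg.Agent.Lib.Helper2.HNBig.C336
import Cfsg.Agent.Lib.Helper2.HNBig.C337
import Cfsg.Agent.Lib.Helper2.HNBig.C338
import Cfsg.Agent.Lib.Helper2.HNBig.C339
import Cfsg.Agent.Lib.Helper2.HNBig.C340
import Cfsg.Agent.Lib.Helper2.HNBig.C341
import Cfsg.Agent.Lib.Helper2.HNBig.C342
import Cfsg.Agent.Lib.Helper2.HNBig.C343
import Cfsg.Agent.Lib.Helper2.HNBig.C344
import Cfsg.Agent.Lib.Helper2.HNBig.C345
import Cfsg.Agent.Lib.Helper2.HNBig.C346
import Cfsg.Agent.Lib.Helper2.HNBig.C347
import Cfsg.Agent.Lib.Helper2.HNBig.C348
import Cfsg.Agent.Lib.Helper2.HNBig.C349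
import Cfsg.Agent.Lib.Helper2.HNBig.C350
import Cfsg.Agent.Lib.Helper2.HNBig.C351
import Cfsg.Agent.Lib.Helper2.HNBig.C352
import Cfsg.Agent.Lib.Helper2.HNBig.C353
import Cfsg.Agent.Lib.Helper2.HNBig.C354
import Cfsg.Agent.Lib.Helper2.HNBig.C355
import Cfsg.Agent.Lib.Helper2.HNBig.C356
import Cfsg.Agent.Lib.Helper2.HNBig.C357
import Cfsg.Agent.Lib.Helper2.HNBig.C358
import Cfsg.Agent.Lib.Helper2.HNBig.C359
set_option autoImplicit false
set_option maxRecDepth 1000000
set_option Elab.async false
open Cfsg.Agent.Lib.Helper6.TC
namespace Cfsg.Agent.Lib.Helper2.HNBig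
theorem chkR8_s0 : allR (fun p => Nat.beq (R8 p) p) 0 100000 = true :=
  allR_of_chain _ 0 100000 [(0, 5000), (5000, 5000), (10000, 5000), (15000, 5000), (20000, 5000), (25000, 5000), (30000, 5000), (35000, 5000), (40000, 5000), (45000, 5000), (50000, 5000), (55000, 5000), (60000, 5000), (65000, 5000), (70000, 5000), (75000, 5000), (80000, 5000), (85000, 5000), (90000, 5000), (95000, 5000)] (by decide) (by
    intro c hc
    simp only [List.mem_cons, List.mem_nil_iff, or_false] at hc
    rcases hc with rfl | rfl | rfl | rfl | rfl | rfl | rfl | rfl | rfl | rfl | rfl | rfl | rfl | rfl | rfl | rfl | rfl | rfl | rfl | rfl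
    · exact chkR8_r0
    · exact chkR8_r1
    · exact chkR8_r2
    · exact chkR8_r3
    · exact chkR8_r4
    · exact chkR8_r5
    · exact chkR8_r6
    · exact chkR8_r7
    · exact chkR8_r8
    · exact chkR8_r9
    · exact chkR8_r10
    · exact chkR8_r11
    · exact chkR8_r12
    · exact chkR8_r13
    · exact chkR8_r14
    · exact chkR8_r15
    · exact chkR8_r16
    · exact chkR8_r17
    · exact chkR8_r18
    · exact chkR8_r19)
theorem chkR8_s1 : allR (fun p => Nat.beq (R8 p) p) 100000 100000 = true :=
  allR_of_chain _ 100000 100000 [(100000, 5000), (105000, 5000), (110000, 5000), (115000, 5000), (120000, 5000), (125000, 5000), (130000, 5000), (135000, 5000), (140000, 5000), (145000, 5000), (150000, 5000), (155000, 5000), (160000, 5000), (165000, 5000), (170000, 5000), (175000, 5000), (180000, 5000), (185000, 5000), (190000, 5000), (195000, 5000)] (by decide) (by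
    intro c hc
    simp only [List.mem_cons, List.mem_nil_iff, or_false] at hc
    rcases hc with rfl | rfl | rfl | rfl | rfl | rfl | rfl | rfl | rfl | rfl | rfl | rfl | rfl | rfl | rfl | rfl | rfl | rfl | rfl | rfl
    · exact chkR8_r20
    · exact chkR8_r21
    · exact chkR8_r22
    · exact chkR8_r23
    · exact chkR8_r24
    · exact chkR8_r25
    · exact chkR8_r26
    · exact chkR8_r27
    · exact chkR8_r28
    · exact chkR8_r29
    · exact chkR8_r30
    · exact chkR8_r31
    · exact chkR8_r32
    · exact chkR8_r33
    · exact chkR8_r34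
    · exact chkR8_r35
    · exact chkR8_r36
    · exact chkR8_r37
    · exact chkR8_r38
    · exact chkR8_r39)
theorem chkR8_s2 : allR (fun p => Nat.beq (R8 p) p) 200000 100000 = true :=
  allR_of_chain _ 200000 100000 [(200000, 5000), (205000, 5000), (210000, 5000), (215000, 5000), (220000, 5000), (225000, 5000), (230000, 5000), (235000, 5000), (240000, 5000), (245000, 5000), (250000, 5000), (255000, 5000), (260000, 5000), (265000, 5000), (270000, 5000), (275000, 5000), (280000, 5000), (285000, 5000), (290000, 5000), (295000, 5000)] (by decide) (by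
    intro c hc
    simp only [List.mem_cons, List.mem_nil_iff, or_false] at hc
    rcases hc with rfl | rfl | rfl | rfl | rfl | rfl | rfl | rfl | rfl | rfl | rfl | rfl | rfl | rfl | rfl | rfl | rfl | rfl | rfl | rfl
    · exact chkR8_r40
    · exact chkR8_r41
    · exact chkR8_r42
    · exact chkR8_r43
    · exact chkR8_r44
    · exact chkR8_r45
    · exact chkR8_r46
    · exact chkR8_r47
    · exact chkR8_r48
    · exact chkR8_r49
    · exact chkR8_r50
    · exact chkR8_r51
    · exact chkR8_r52
    · exact chkR8_r53
    · exact chkR8_r54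
    · exact chkR8_r55
    · exact chkR8_r56
    · exact chkR8_r57
    · exact chkR8_r58
    · exact chkR8_r59)
theorem chkR8_s3 : allR (fun p => Nat.beq (R8 p) p) 300000 100000 = true :=
  allR_of_chain _ 300000 100000 [(300000, 5000), (305000, 5000), (310000, 5000), (315000, 5000), (320000, 5000), (325000, 5000), (330000, 5000), (335000, 5000), (340000, 5000), (345000, 5000), (350000, 5000), (355000, 5000), (360000, 5000), (365000, 5000), (370000, 5000), (375000, 5000), (380000, 5000), (385000, 5000), (390000, 5000), (395000, 5000)] (by decide) (by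
    intro c hc
    simp only [List.mem_cons, List.mem_nil_iff, or_false] at hc
    rcases hc with rfl | rfl | rfl | rfl | rfl | rfl | rfl | rfl | rfl | rfl | rfl | rfl | rfl | rfl | rfl | rfl | rfl | rfl | rfl | rfl
    · exact chkR8_r60
    · exact chkR8_r61
    · exact chkR8_r62
    · exact chkR8_r63
    · exact chkR8_r64
    · exact chkR8_r65
    · exact chkR8_r66
    · exact chkR8_r67
    · exact chkR8_r68
    · exact chkR8_r69
    · exact chkR8_r70
    · exact chkR8_r71
    · exact chkR8_r72
    · exact chkR8_r73
    · exact chkR8_r74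
    · exact chkR8_r75
    · exact chkR8_r76
    · exact chkR8_r77
    · exact chkR8_r78
    · exact chkR8_r79)
theorem chkR8_s4 : allR (fun p => Nat.beq (R8 p) p) 400000 100000 = true :=
  allR_of_chain _ 400000 100000 [(400000, 5000), (405000, 5000), (410000, 5000), (415000, 5000), (420000, 5000), (425000, 5000), (430000, 5000), (435000, 5000), (440000, 5000), (445000, 5000), (450000, 5000), (455000, 5000), (460000, 5000), (465000, 5000), (470000, 5000), (475000, 5000), (480000, 5000), (485000, 5000), (490000, 5000), (495000, 5000)] (by decide) (by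
    intro c hc
    simp only [List.mem_cons, List.mem_nil_iff, or_false] at hc
    rcases hc with rfl | rfl | rfl | rfl | rfl | rfl | rfl | rfl | rfl | rfl | rfl | rfl | rfl | rfl | rfl | rfl | rfl | rfl | rfl | rfl
    · exact chkR8_r80
    · exact chkR8_r81
    · exact chkR8_r82
    · exact chkR8_r83
    · exact chkR8_r84
    · exact chkR8_r85
    · exact chkR8_r86
    · exact chkR8_r87
    · exact chkR8_r88
    · exact chkR8_r89
    · exact chkR8_r90
    · exact chkR8_r91
    · exact chkR8_r92
    · exact chkR8_r93
    · exact chkR8_r94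
    · exact chkR8_r95
    · exact chkR8_r96
    · exact chkR8_r97
    · exact chkR8_r98
    · exact chkR8_r99)
theorem chkR8_s5 : allR (fun p => Nat.beq (R8 p) p) 500000 100000 = true :=
  allR_of_chain _ 500000 100000 [(500000, 5000), (505000, 5000), (510000, 5000), (515000, 5000), (520000, 5000), (525000, 5000), (530000, 5000), (535000, 5000), (540000, 5000), (545000, 5000), (550000, 5000), (555000, 5000), (560000, 5000), (565000, 5000), (570000, 5000), (575000, 5000), (580000, 5000), (585000, 5000), (590000, 5000), (595000, 5000)] (by decide) (by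
    intro c hc
    simp only [List.mem_cons, List.mem_nil_iff, or_false] at hc
    rcases hc with rfl | rfl | rfl | rfl | rfl | rfl | rfl | rfl | rfl | rfl | rfl | rfl | rfl | rfl | rfl | rfl | rfl | rfl | rfl | rfl
    · exact chkR8_r100
    · exact chkR8_r101
    · exact chkR8_r102
    · exact chkR8_r103
    · exact chkR8_r104
    · exact chkR8_r105
    · exact chkR8_r106
    · exact chkR8_r107
    · exact chkR8_r108
    · exact chkR8_r109
    · exact chkR8_r110
    · exact chkR8_r111
    · exact chkR8_r112
    · exact chkR8_r113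
    · exact chkR8_r114
    · exact chkR8_r115
    · exact chkR8_r116
    · exact chkR8_r117
    · exact chkR8_r118
    · exact chkR8_r119)
theorem chkR8_s6 : allR (fun p => Nat.beq (R8 p) p) 600000 100000 = true :=
  allR_of_chain _ 600000 100000 [(600000, 5000), (605000, 5000), (610000, 5000), (615000, 5000), (620000, 5000), (625000, 5000), (630000, 5000), (635000, 5000), (640000, 5000), (645000, 5000), (650000, 5000), (655000, 5000), (660000, 5000), (665000, 5000), (670000, 5000), (675000, 5000), (680000, 5000), (685000, 5000), (690000, 5000), (695000, 5000)] (by decide) (by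
    intro c hc
    simp only [List.mem_cons, List.mem_nil_iff, or_false] at hc
    rcases hc with rfl | rfl | rfl | rfl | rfl | rfl | rfl | rfl | rfl | rfl | rfl | rfl | rfl | rfl | rfl | rfl | rfl | rfl | rfl | rfl
    · exact chkR8_r120
    · exact chkR8_r121
    · exact chkR8_r122
    · exact chkR8_r123
    · exact chkR8_r124
    · exact chkR8_r125
    · exact chkR8_r126
    · exact chkR8_r127
    · exact chkR8_r128
    · exact chkR8_r129
    · exact chkR8_r130
    · exact chkR8_r131
    · exact chkR8_r132
    · exact chkR8_r133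
    · exact chkR8_r134
    · exact chkR8_r135
    · exact chkR8_r136
    · exact chkR8_r137
    · exact chkR8_r138
    · exact chkR8_r139)
theorem chkR8_s7 : allR (fun p => Nat.beq (R8 p) p) 700000 100000 = true :=
  allR_of_chain _ 700000 100000 [(700000, 5000), (705000, 5000), (710000, 5000), (715000, 5000), (720000, 5000), (725000, 5000), (730000, 5000), (735000, 5000), (740000, 5000), (745000, 5000), (750000, 5000), (755000, 5000), (760000, 5000), (765000, 5000), (770000, 5000), (775000, 5000), (780000, 5000), (785000, 5000), (790000, 5000), (795000, 5000)] (by decide) (by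
    intro c hc
    simp only [List.mem_cons, List.mem_nil_iff, or_false] at hc
    rcases hc with rfl | rfl | rfl | rfl | rfl | rfl | rfl | rfl | rfl | rfl | rfl | rfl | rfl | rfl | rfl | rfl | rfl | rfl | rfl | rfl
    · exact chkR8_r140
    · exact chkR8_r141
    · exact chkR8_r142
    · exact chkR8_r143
    · exact chkR8_r144
    · exact chkR8_r145
    · exact chkR8_r146
    · exact chkR8_r147
    · exact chkR8_r148
    · exact chkR8_r149
    · exact chkR8_r150
    · exact chkR8_r151
    · exact chkR8_r152
    · exact chkR8_r153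
    · exact chkR8_r154
    · exact chkR8_r155
    · exact chkR8_r156
    · exact chkR8_r157
    · exact chkR8_r158
    · exact chkR8_r159)
theorem chkR8_s8 : allR (fun p => Nat.beq (R8 p) p) 800000 100000 = true :=
  allR_of_chain _ 800000 100000 [(800000, 5000), (805000, 5000), (810000, 5000), (815000, 5000), (820000, 5000), (825000, 5000), (830000, 5000), (835000, 5000), (840000, 5000), (845000, 5000), (850000, 5000), (855000, 5000), (860000, 5000), (865000, 5000), (870000, 5000), (875000, 5000), (880000, 5000), (885000, 5000), (890000, 5000), (895000, 5000)] (by decide) (by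
    intro c hc
    simp only [List.mem_cons, List.mem_nil_iff, or_false] at hc
    rcases hc with rfl | rfl | rfl | rfl | rfl | rfl | rfl | rfl | rfl | rfl | rfl | rfl | rfl | rfl | rfl | rfl | rfl | rfl | rfl | rfl
    · exact chkR8_r160
    · exact chkR8_r161
    · exact chkR8_r162
    · exact chkR8_r163
    · exact chkR8_r164
    · exact chkR8_r165
    · exact chkR8_r166
    · exact chkR8_r167
    · exact chkR8_r168
    · exact chkR8_r169
    · exact chkR8_r170
    · exact chkR8_r171
    · exact chkR8_r172
    · exact chkR8_r173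
    · exact chkR8_r174
    · exact chkR8_r175
    · exact chkR8_r176
    · exact chkR8_r177
    · exact chkR8_r178
    · exact chkR8_r179)
theorem chkR8_s9 : allR (fun p => Nat.beq (R8 p) p) 900000 100000 = true :=
  allR_of_chain _ 900000 100000 [(900000, 5000), (905000, 5000), (910000, 5000), (915000, 5000), (920000, 5000), (925000, 5000), (930000, 5000), (935000, 5000), (940000, 5000), (945000, 5000), (950000, 5000), (955000, 5000), (960000, 5000), (965000, 5000), (970000, 5000), (975000, 5000), (980000, 5000), (985000, 5000), (990000, 5000), (995000, 5000)] (by decide) (by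
    intro c hc
    simp only [List.mem_cons, List.mem_nil_iff, or_false] at hc
    rcases hc with rfl | rfl | rfl | rfl | rfl | rfl | rfl | rfl | rfl | rfl | rfl | rfl | rfl | rfl | rfl | rfl | rfl | rfl | rfl | rfl
    · exact chkR8_r180
    · exact chkR8_r181
    · exact chkR8_r182
    · exact chkR8_r183
    · exact chkR8_r184
    · exact chkR8_r185
    · exact chkR8_r186
    · exact chkR8_r187
    · exact chkR8_r188
    · exact chkR8_r189
    · exact chkR8_r190
    · exact chkR8_r191
    · exact chkR8_r192
    · exact chkR8_r193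
    · exact chkR8_r194
    · exact chkR8_r195
    · exact chkR8_r196
    · exact chkR8_r197
    · exact chkR8_r198
    · exact chkR8_r199)
theorem chkR8_s10 : allR (fun p => Nat.beq (R8 p) p) 1000000 100000 = true :=
  allR_of_chain _ 1000000 100000 [(1000000, 5000), (1005000, 5000), (1010000, 5000), (1015000, 5000), (1020000, 5000), (1025000, 5000), (1030000, 5000), (1035000, 5000), (1040000, 5000), (1045000, 5000), (1050000, 5000), (1055000, 5000), (1060000, 5000), (1065000, 5000), (1070000, 5000), (1075000, 5000), (1080000, 5000), (1085000, 5000), (1090000, 5000), (1095000, 5000)] (by decide) (by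
    intro c hc
    simp only [List.mem_cons, List.mem_nil_iff, or_false] at hc
    rcases hc with rfl | rfl | rfl | rfl | rfl | rfl | rfl | rfl | rfl | rfl | rfl | rfl | rfl | rfl | rfl | rfl | rfl | rfl | rfl | rfl
    · exact chkR8_r200
    · exact chkR8_r201
    · exact chkR8_r202
    · exact chkR8_r203
    · exact chkR8_r204
    · exact chkR8_r205
    · exact chkR8_r206
    · exact chkR8_r207
    · exact chkR8_r208
    · exact chkR8_r209
    · exact chkR8_r210
    · exact chkR8_r211
    · exact chkR8_r212
    · exact chkR8_r213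
    · exact chkR8_r214
    · exact chkR8_r215
    · exact chkR8_r216
    · exact chkR8_r217
    · exact chkR8_r218
    · exact chkR8_r219)
theorem chkR8_s11 : allR (fun p => Nat.beq (R8 p) p) 1100000 100000 = true :=
  allR_of_chain _ 1100000 100000 [(1100000, 5000), (1105000, 5000), (1110000, 5000), (1115000, 5000), (1120000, 5000), (1125000, 5000), (1130000, 5000), (1135000, 5000), (1140000, 5000), (1145000, 5000), (1150000, 5000), (1155000, 5000), (1160000, 5000), (1165000, 5000), (1170000, 5000), (1175000, 5000), (1180000, 5000), (1185000, 5000), (1190000, 5000), (1195000, 5000)] (by decide) (by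
    intro c hc
    simp only [List.mem_cons, List.mem_nil_iff, or_false] at hc
    rcases hc with rfl | rfl | rfl | rfl | rfl | rfl | rfl | rfl | rfl | rfl | rfl | rfl | rfl | rfl | rfl | rfl | rfl | rfl | rfl | rfl
    · exact chkR8_r220
    · exact chkR8_r221
    · exact chkR8_r222
    · exact chkR8_r223
    · exact chkR8_r224
    · exact chkR8_r225
    · exact chkR8_r226
    · exact chkR8_r227
    · exact chkR8_r228
    · exact chkR8_r229
    · exact chkR8_r230
    · exact chkR8_r231
    · exact chkR8_r232
    · exact chkR8_r233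
    · exact chkR8_r234
    · exact chkR8_r235
    · exact chkR8_r236
    · exact chkR8_r237
    · exact chkR8_r238
    · exact chkR8_r239)
theorem chkR8_s12 : allR (fun p => Nat.beq (R8 p) p) 1200000 100000 = true :=
  allR_of_chain _ 1200000 100000 [(1200000, 5000), (1205000, 5000), (1210000, 5000), (1215000, 5000), (1220000, 5000), (1225000, 5000), (1230000, 5000), (1235000, 5000), (1240000, 5000), (1245000, 5000), (1250000, 5000), (1255000, 5000), (1260000, 5000), (1265000, 5000), (1270000, 5000), (1275000, 5000), (1280000, 5000), (1285000, 5000), (1290000, 5000), (1295000, 5000)] (by decide) (by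
    intro c hc
    simp only [List.mem_cons, List.mem_nil_iff, or_false] at hc
    rcases hc with rfl | rfl | rfl | rfl | rfl | rfl | rfl | rfl | rfl | rfl | rfl | rfl | rfl | rfl | rfl | rfl | rfl | rfl | rfl | rfl
    · exact chkR8_r240
    · exact chkR8_r241
    · exact chkR8_r242
    · exact chkR8_r243
    · exact chkR8_r244
    · exact chkR8_r245
    · exact chkR8_r246
    · exact chkR8_r247
    · exact chkR8_r248
    · exact chkR8_r249
    · exact chkR8_r250
    · exact chkR8_r251
    · exact chkR8_r252
    · exact chkR8_r253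
    · exact chkR8_r254
    · exact chkR8_r255
    · exact chkR8_r256
    · exact chkR8_r257
    · exact chkR8_r258
    · exact chkR8_r259)
theorem chkR8_s13 : allR (fun p => Nat.beq (R8 p) p) 1300000 100000 = true :=
  allR_of_chain _ 1300000 100000 [(1300000, 5000), (1305000, 5000), (1310000, 5000), (1315000, 5000), (1320000, 5000), (1325000, 5000), (1330000, 5000), (1335000, 5000), (1340000, 5000), (1345000, 5000), (1350000, 5000), (1355000, 5000), (1360000, 5000), (1365000, 5000), (1370000, 5000), (1375000, 5000), (1380000, 5000), (1385000, 5000), (1390000, 5000), (1395000, 5000)] (by decide) (by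
    intro c hc
    simp only [List.mem_cons, List.mem_nil_iff, or_false] at hc
    rcases hc with rfl | rfl | rfl | rfl | rfl | rfl | rfl | rfl | rfl | rfl | rfl | rfl | rfl | rfl | rfl | rfl | rfl | rfl | rfl | rfl
    · exact chkR8_r260
    · exact chkR8_r261
    · exact chkR8_r262
    · exact chkR8_r263
    · exact chkR8_r264
    · exact chkR8_r265
    · exact chkR8_r266
    · exact chkR8_r267
    · exact chkR8_r268
    · exact chkR8_r269
    · exact chkR8_r270
    · exact chkR8_r271
    · exact chkR8_r272
    · exact chkR8_r273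
    · exact chkR8_r274
    · exact chkR8_r275
    · exact chkR8_r276
    · exact chkR8_r277
    · exact chkR8_r278
    · exact chkR8_r279)
theorem chkR8_s14 : allR (fun p => Nat.beq (R8 p) p) 1400000 100000 = true :=
  allR_of_chain _ 1400000 100000 [(1400000, 5000), (1405000, 5000), (1410000, 5000), (1415000, 5000), (1420000, 5000), (1425000, 5000), (1430000, 5000), (1435000, 5000), (1440000, 5000), (1445000, 5000), (1450000, 5000), (1455000, 5000), (1460000, 5000), (1465000, 5000), (1470000, 5000), (1475000, 5000), (1480000, 5000), (1485000, 5000), (1490000, 5000), (1495000, 5000)] (by decide) (by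
    intro c hc
    simp only [List.mem_cons, List.mem_nil_iff, or_false] at hc
    rcases hc with rfl | rfl | rfl | rfl | rfl | rfl | rfl | rfl | rfl | rfl | rfl | rfl | rfl | rfl | rfl | rfl | rfl | rfl | rfl | rfl
    · exact chkR8_r280
    · exact chkR8_r281
    · exact chkR8_r282
    · exact chkR8_r283
    · exact chkR8_r284
    · exact chkR8_r285
    · exact chkR8_r286
    · exact chkR8_r287
    · exact chkR8_r288
    · exact chkR8_r289
    · exact chkR8_r290
    · exact chkR8_r291
    · exact chkR8_r292
    · exact chkR8_r293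
    · exact chkR8_r294
    · exact chkR8_r295
    · exact chkR8_r296
    · exact chkR8_r297
    · exact chkR8_r298
    · exact chkR8_r299)
theorem chkR8_s15 : allR (fun p => Nat.beq (R8 p) p) 1500000 39000 = true :=
  allR_of_chain _ 1500000 39000 [(1500000, 5000), (1505000, 5000), (1510000, 5000), (1515000, 5000), (1520000, 5000), (1525000, 5000), (1530000, 5000), (1535000, 4000)] (by decide) (by
    intro c hc
    simp only [List.mem_cons, List.mem_nil_iff, or_false] at hc
    rcases hc with rfl | rfl | rfl | rfl | rfl | rfl | rfl | rfl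
    · exact chkR8_r300
    · exact chkR8_r301
    · exact chkR8_r302
    · exact chkR8_r303
    · exact chkR8_r304
    · exact chkR8_r305
    · exact chkR8_r306
    · exact chkR8_r307)
theorem chkR8_all : allB (fun p => Nat.beq (R8 p) p) 1539000 = true :=
  allB_of_chain _ 1539000 [(0, 100000), (100000, 100000), (200000, 100000), (300000, 100000), (400000, 100000), (500000, 100000), (600000, 100000), (700000, 100000), (800000, 100000), (900000, 100000), (1000000, 100000), (1100000, 100000), (1200000, 100000), (1300000, 100000), (1400000, 100000), (1500000, 39000)] (by decide) (by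
    intro c hc
    simp only [List.mem_cons, List.mem_nil_iff, or_false] at hc
    rcases hc with rfl | rfl | rfl | rfl | rfl | rfl | rfl | rfl | rfl | rfl | rfl | rfl | rfl | rfl | rfl | rfl
    · exact chkR8_s0
    · exact chkR8_s1
    · exact chkR8_s2
    · exact chkR8_s3
    · exact chkR8_s4
    · exact chkR8_s5
    · exact chkR8_s6
    · exact chkR8_s7
    · exact chkR8_s8
    · exact chkR8_s9
    · exact chkR8_s10
    · exact chkR8_s11
    · exact chkR8_s12
    · exact chkR8_s13
    · exact chkR8_s14
    · exact chkR8_s15)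
end Cfsg.Agent.Lib.Helper2.HNBig
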