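import Cfsg.Agent.Lib.Helper2.HNBig.AP0
import Cfsg.Agent.Lib.Helper2.HNBig.AP1
import Cfsg.Agent.Lib.Helper2.HNBig.AP2
import Cfsg.Agent.Lib.Helper2.HNBig.AP3
import Cfsg.Agent.Lib.Helper2.HNBig.AP4
import Cfsg.Agent.Lib.Helper2.HNBig.AP5
import Cfsg.Agent.Lib.Helper2.HNBig.AP6
import Cfsg.Agent.Lib.Helper2.HNBig.AT
import Cfsg.Agent.Lib.Helper2.HNBig.AR0
import Cfsg.Agent.Lib.Helper2.HNBig.AR1
import Cfsg.Agent.Lib.Helper2.HNBig.AQ2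
import Cfsg.Agent.Lib.Helper2.HNBig.AR2
import Cfsg.Agent.Lib.Helper2.HNBig.AQ3
import Cfsg.Agent.Lib.Helper2.HNBig.AR3
import Cfsg.Agent.Lib.Helper2.HNBig.AQ4
import Cfsg.Agent.Lib.Helper2.HNBig.AR4
import Cfsg.Agent.Lib.Helper2.HNBig.AQ5
import Cfsg.Agent.Lib.Helper2.HNBig.AR5
import Cfsg.Agent.Lib.Helper2.HNBig.AR7
import Cfsg.Agent.Lib.Helper2.HNBig.AR8
import Cfsg.Agent.Lib.Helper2.HNBig.AQ9
import Cfsg.Agent.Lib.Helper2.HNBig.AR9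
import Cfsg.Agent.Lib.Helper2.HNBig.AR10
import Cfsg.Agent.Lib.Helper2.HNBig.AR11
import Cfsg.Agent.Lib.Helper2.HNBig.AR12
import Cfsg.Agent.Lib.Helper2.HNBig.AR13
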