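import Cfsg.Agent.Lib.Helper2.HNTcp
import Cfsg.Agent.Lib.Helper2.HNBig.All

set_option autoImplicit false
set_option maxRecDepth 100000
set_option linter.unusedSimpArgs false

namespace Cfsg.Agent.Lib.Helper2.HNBig

open Cfsg.Spor Cfsg.Agent.Lib.Helper6.TC Cfsg.Agent.Lib.Helper6.TCP Cfsg.Agent.Lib.Helper2.HNTcp

/-! # The permutation representation of the presented Harada–Norton group on 1539000 points -/

theorem px_c0 (p : ℕ) : px 0 p = P0 p := rfl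
theorem px_c1 (p : ℕ) : px 1 p = P1 p := rfl
theorem px_c2 (p : ℕ) : px 2 p = P2 p := rfl
theorem px_c3 (p : ℕ) : px 3 p = P3 p := rfl
theorem px_c4 (p : ℕ) : px 4 p = P4 p := rfl
theorem px_c5 (p : ℕ) : px 5 p = P5 p := rfl
theorem px_c6 (p : ℕ) : px 6 p = P6 p := rfl

theorem N_eq : N = 1539000 := rfl

theorem colP0 : chkCol P0 P1 N = true := chkP0_all
theorem colP1 : chkCol P1 P0 N = true := chkP1_all
theorem colP2 : chkCol P2 P3 N = true := chkP2_all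
theorem colP3 : chkCol P3 P2 N = true := chkP3_all
theorem colP4 : chkCol P4 P4 N = true := chkP4_all
theorem colP5 : chkCol P5 P6 N = true := chkP5_all
theorem colP6 : chkCol P6 P5 N = true := chkP6_all

theorem hP : PHyp px N 7 HN.INV where
  Npos := by rw [N_eq]; norm_num
  hinv1 := hinv1
  hinvinv := hinvinv
  hlt := by
    intro c hc p hp
    interval_cases c
    · exact (chkCol_spec colP0 p hp).1
    · exact (chkCol_spec colP1 p hp).1
    · exact (chkCol_spec colP2 p hp).1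
    · exact (chkCol_spec colP3 p hp).1
    · exact (chkCol_spec colP4 p hp).1
    · exact (chkCol_spec colP5 p hp).1
    · exact (chkCol_spec colP6 p hp).1
  hpx := by
    intro c hc p hp
    interval_cases c
    · rw [invc_0]; exact (chkCol_spec colP0 p hp).2
    · rw [invc_1]; exact (chkCol_spec colP1 p hp).2
    · rw [invc_2]; exact (chkCol_spec colP2 p hp).2
    · rw [invc_3]; exact (chkCol_spec colP3 p hp).2
    · rw [invc_4]; exact (chkCol_spec colP4 p hp).2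
    · rw [invc_5]; exact (chkCol_spec colP5 p hp).2
    · rw [invc_6]; exact (chkCol_spec colP6 p hp).2

theorem fixR {R : ℕ → ℕ} (h : allB (fun p => Nat.beq (R p) p) 1539000 = true) :
    ∀ p < N, R p = p :=
  fun p hp => Nat.eq_of_beq_eq_true (allB_spec h p hp)

theorem eqQ {Q U : ℕ → ℕ} (h : allB (fun p => Nat.beq (Q p) (U p)) 1539000 = true) :
    ∀ p < N, Q p = U p :=
  fun p hp => Nat.eq_of_beq_eq_true (allB_spec h p hp)

theorem wapp_R0 (p : ℕ) : wapp px [2, 2, 2, 2, 2, 2] p = R0 p := by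
  simp only [wapp_cons, wapp_nil, px_c0, px_c1, px_c2, px_c3, px_c4, px_c5, px_c6, R0]

theorem wapp_R1 (p : ℕ) : wapp px [0, 0, 2, 0, 0, 3] p = R1 p := by
  simp only [wapp_cons, wapp_nil, px_c0, px_c1, px_c2, px_c3, px_c4, px_c5, px_c6, R1]

theorem wapp_R7 (p : ℕ) : wapp px [4, 0, 4, 0] p = R7 p := by
  simp only [wapp_cons, wapp_nil, px_c0, px_c1, px_c2, px_c3, px_c4, px_c5, px_c6, R7]

theorem wapp_R8 (p : ℕ) : wapp px [4, 2, 1, 3, 3, 1, 3, 1, 3, 4, 2, 0, 2, 0, 2, 2, 0, 3, 1, 1] p = R8 p := by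
  simp only [wapp_cons, wapp_nil, px_c0, px_c1, px_c2, px_c3, px_c4, px_c5, px_c6, R8]

theorem wapp_R10 (p : ℕ) : wapp px [5, 5, 5, 5, 5] p = R10 p := by
  simp only [wapp_cons, wapp_nil, px_c0, px_c1, px_c2, px_c3, px_c4, px_c5, px_c6, R10]

theorem wapp_R11 (p : ℕ) : wapp px [1, 5, 0, 5, 5] p = R11 p := by
  simp only [wapp_cons, wapp_nil, px_c0, px_c1, px_c2, px_c3, px_c4, px_c5, px_c6, R11]

theorem wapp_R12 (p : ℕ) : wapp px [6, 3, 5, 2] p = R12 p := by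
  simp only [wapp_cons, wapp_nil, px_c0, px_c1, px_c2, px_c3, px_c4, px_c5, px_c6, R12]

theorem wapp_R13 (p : ℕ) : wapp px [4, 5, 4, 5, 4, 5] p = R13 p := by
  simp only [wapp_cons, wapp_nil, px_c0, px_c1, px_c2, px_c3, px_c4, px_c5, px_c6, R13]

theorem wapp_U2 (p : ℕ) : wapp px [1, 3, 0, 2] p = U2 p := by
  simp only [wapp_cons, wapp_nil, px_c0, px_c1, px_c2, px_c3, px_c4, px_c5, px_c6, U2]

theorem eqQ2 : ∀ p < N, Q2 p = wapp px [1, 3, 0, 2] p := by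
  intro p hp
  rw [wapp_U2]
  exact eqQ chkQ2_all p hp

theorem wapp_U3 (p : ℕ) : wapp px [1, 2, 2, 0, 2, 2, 2] p = U3 p := by
  simp only [wapp_cons, wapp_nil, px_c0, px_c1, px_c2, px_c3, px_c4, px_c5, px_c6, U3]

theorem eqQ3 : ∀ p < N, Q3 p = wapp px [1, 2, 2, 0, 2, 2, 2] p := by
  intro p hp
  rw [wapp_U3]
  exact eqQ chkQ3_all p hp

theorem wapp_U4 (p : ℕ) : wapp px [0, 2] p = U4 p := by
  simp only [wapp_cons, wapp_nil, px_c0, px_c1, px_c2, px_c3, px_c4, px_c5, px_c6, U4]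

theorem eqQ4 : ∀ p < N, Q4 p = wapp px [0, 2] p := by
  intro p hp
  rw [wapp_U4]
  exact eqQ chkQ4_all p hp

theorem wapp_U5 (p : ℕ) : wapp px [0, 2, 0, 2, 2, 2] p = U5 p := by
  simp only [wapp_cons, wapp_nil, px_c0, px_c1, px_c2, px_c3, px_c4, px_c5, px_c6, U5]

theorem eqQ5 : ∀ p < N, Q5 p = wapp px [0, 2, 0, 2, 2, 2] p := by
  intro p hp
  rw [wapp_U5]
  exact eqQ chkQ5_all p hp

theorem wapp_U9 (p : ℕ) : wapp px [3, 1, 3, 1, 3, 3, 3, 4, 2, 2, 2, 0, 2, 0, 2, 0] p = U9 p := by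
  simp only [wapp_cons, wapp_nil, px_c0, px_c1, px_c2, px_c3, px_c4, px_c5, px_c6, U9]

theorem eqQ9 : ∀ p < N, Q9 p = wapp px [3, 1, 3, 1, 3, 3, 3, 4, 2, 2, 2, 0, 2, 0, 2, 0] p := by
  intro p hp
  rw [wapp_U9]
  exact eqQ chkQ9_all p hp

theorem hfix2 : ∀ p < N, wapp px [1, 3, 0, 2, 1, 3, 0, 2, 1, 3, 0, 2] p = p := by
  intro p hp
  have h := wapp_pow hP [1, 3, 0, 2] (by decide) Q2 eqQ2 3 p hp
  exact h.trans (fixR chkR2_all p hp)

theorem hfix3 : ∀ p < N,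
    wapp px [1, 2, 2, 0, 2, 2, 2, 1, 2, 2, 0, 2, 2, 2, 1, 2, 2, 0, 2, 2, 2] p = p := by
  intro p hp
  have h := wapp_pow hP [1, 2, 2, 0, 2, 2, 2] (by decide) Q3 eqQ3 3 p hp
  exact h.trans (fixR chkR3_all p hp)

theorem hfix4 : ∀ p < N, wapp px [0, 2, 0, 2, 0, 2, 0, 2, 0, 2, 0, 2, 0, 2, 0, 2] p = p := by
  intro p hp
  have h := wapp_pow hP [0, 2] (by decide) Q4 eqQ4 8 p hp
  exact h.trans (fixR chkR4_all p hp)

theorem hfix5 : ∀ p < N,
    wapp px [0, 2, 0, 2, 2, 2, 0, 2, 0, 2, 2, 2, 0, 2, 0, 2, 2, 2, 0, 2, 0, 2, 2, 2] p = p := by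
  intro p hp
  have h := wapp_pow hP [0, 2, 0, 2, 2, 2] (by decide) Q5 eqQ5 4 p hp
  exact h.trans (fixR chkR5_all p hp)

theorem hfix9 : ∀ p < N,
    wapp px [4, 3, 1, 3, 1, 3, 3, 3, 4, 2, 2, 2, 0, 2, 0, 2, 0, 3, 1, 3, 1, 3, 3, 3, 4, 2, 2, 2, 0, 2,
      0, 2, 0, 3, 1, 3, 1, 3, 3, 3, 4, 2, 2, 2, 0, 2, 0, 2, 0] p = p := by
  intro p hp
  have h4 : px 4 p < N := hP.hlt 4 (by decide) p hp
  have h := wapp_pow hP [3, 1, 3, 1, 3, 3, 3, 4, 2, 2, 2, 0, 2, 0, 2, 0] (by decide) Q9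
    eqQ9 3 (px 4 p) h4
  rw [wapp_cons]
  exact h.trans (fixR chkR9_all p hp)

theorem hfix : ∀ b ∈ HN.base, ∀ p < N, wapp px b p = p := by
  intro b hb
  simp only [HN.base, List.mem_cons, List.mem_nil_iff, or_false] at hb
  rcases hb with rfl | rfl | rfl | rfl | rfl | rfl | rfl | rfl | rfl | rfl | rfl | rfl | rfl | rfl |
    rfl | rfl | rfl
  · intro p hp; rw [wapp_R0]; exact fixR chkR0_all p hp
  · intro p hp; rw [wapp_R1]; exact fixR chkR1_all p hp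
  · exact hfix2
  · exact hfix3
  · exact hfix4
  · exact hfix5
  · intro p hp; exact (chkCol_spec colP4 p hp).2
  · intro p hp; rw [wapp_R7]; exact fixR chkR7_all p hp
  · intro p hp; rw [wapp_R8]; exact fixR chkR8_all p hp
  · exact hfix9
  · intro p hp; rw [wapp_R10]; exact fixR chkR10_all p hp
  · intro p hp; rw [wapp_R11]; exact fixR chkR11_all p hp
  · intro p hp; rw [wapp_R12]; exact fixR chkR12_all p hp
  · intro p hp; rw [wapp_R13]; exact fixR chkR13_all p hp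
  · intro p hp; exact (chkCol_spec colP0 p hp).2
  · intro p hp; exact (chkCol_spec colP2 p hp).2
  · intro p hp; exact (chkCol_spec colP5 p hp).2

theorem htree : ∀ p, 0 < p → p < N → ∃ c < 7, ∃ q < p, px c q = p :=
  chkTree_spec (px := px) (GT := GT) (ncol := 7) (N := N) chkT_all

/-- the generators of the subgroup -/
abbrev S : Set (FreeGroup HN.Gen) := {HN.x, HN.y, HN.z}

set_option Elab.async false in
theorem fix0 : wapp px [0] 0 = 0 ∧ wapp px [2] 0 = 0 ∧ wapp px [4] 0 = 0 := by decide +kernel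

theorem hsubP : ∀ s ∈ S, ∃ w, (∀ c ∈ w, c < 7) ∧ s = wordElt HN.gc w ∧ wapp px w 0 = 0 := by
  intro s hs
  simp only [S, Set.mem_insert_iff, Set.mem_singleton_iff] at hs
  rcases hs with rfl | rfl | rfl
  · exact ⟨[0], by decide, by rw [wordElt_cons, wordElt_nil, mul_one, HN.ce0], fix0.1⟩
  · exact ⟨[2], by decide, by rw [wordElt_cons, wordElt_nil, mul_one, HN.ce2], fix0.2.1⟩
  · exact ⟨[4], by decide, by rw [wordElt_cons, wordElt_nil, mul_one, HN.ce4], fix0.2.2⟩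

/-- the permutation representation on 1539000 points -/
theorem rep_exists : ∃ φ : PresentedGroup HN.Rels →* Equiv.Perm (Fin N),
    (∀ w, (∀ c ∈ w, c < 7) → ∀ p : Fin N,
      ((φ (PresentedGroup.mk HN.Rels (wordElt HN.gc w)))⁻¹ p).val = wapp px w p.val) ∧
    (∀ h ∈ subH HN.Rels S, φ h ⟨0, hP.Npos⟩ = ⟨0, hP.Npos⟩) ∧
    (∀ p : Fin N, ∃ g, φ g ⟨0, hP.Npos⟩ = p) :=
  perm_rep (rels := HN.Rels) (S := S) hP hC (rel_cover hP hfix) hsubP htree

end Cfsg.Agent.Lib.Helper2.HNBig
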