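import Cfsg.Agent.Lib.Helper6.TC11
import Cfsg.Agent.Lib.Helper6.TC13
import Cfsg.Agent.Lib.Helper6.TC15
import Cfsg.Agent.Lib.Helper2.HNBig.C108
import Cfsg.Agent.Lib.Helper2.HNBig.C109
import Cfsg.Agent.Lib.Helper2.HNBig.C110
import Cfsg.Agent.Lib.Helper2.HNBig.C111
import Cfsg.Agent.Lib.Helper2.HNBig.C112
import Cfsg.Agent.Lib.Helper2.HNBig.C113
import Cfsg.Agent.Lib.Helper2.HNBig.C114
import Cfsg.Agent.Lib.Helper2.HNBig.C115
import Cfsg.Agent.Lib.Helper2.HNBig.C116
import Cfsg.Agent.Lib.Helper2.HNBig.C117
import Cfsg.Agent.Lib.Helper2.HNBig.C118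
import Cfsg.Agent.Lib.Helper2.HNBig.C119
import Cfsg.Agent.Lib.Helper2.HNBig.C120
import Cfsg.Agent.Lib.Helper2.HNBig.C121
import Cfsg.Agent.Lib.Helper2.HNBig.C122
import Cfsg.Agent.Lib.Helper2.HNBig.C123
import Cfsg.Agent.Lib.Helper2.HNBig.C124
import Cfsg.Agent.Lib.Helper2.HNBig.C125
import Cfsg.Agent.Lib.Helper2.HNBig.C126
import Cfsg.Agent.Lib.Helper2.HNBig.C127
set_option autoImplicit false
set_option maxRecDepth 1000000
set_option Elab.async false
open Cfsg.Agent.Lib.Helper6.TC
namespace Cfsg.Agent.Lib.Helper2.HNBig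
theorem chkQ2_s0 : allR (fun p => Nat.beq (Q2 p) (U2 p)) 0 400000 = true :=
  allR_of_chain _ 0 400000 [(0, 20000), (20000, 20000), (40000, 20000), (60000, 20000), (80000, 20000), (100000, 20000), (120000, 20000), (140000, 20000), (160000, 20000), (180000, 20000), (200000, 20000), (220000, 20000), (240000, 20000), (260000, 20000), (280000, 20000), (300000, 20000), (320000, 20000), (340000, 20000), (360000, 20000), (380000, 20000)] (by decide) (by
    intro c hc
    simp only [List.mem_cons, List.mem_nil_iff, or_false] at hc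
    rcases hc with rfl | rfl | rfl | rfl | rfl | rfl | rfl | rfl | rfl | rfl | rfl | rfl | rfl | rfl | rfl | rfl | rfl | rfl | rfl | rfl
    · exact chkQ2_r0
    · exact chkQ2_r1
    · exact chkQ2_r2
    · exact chkQ2_r3
    · exact chkQ2_r4
    · exact chkQ2_r5
    · exact chkQ2_r6
    · exact chkQ2_r7
    · exact chkQ2_r8
    · exact chkQ2_r9
    · exact chkQ2_r10
    · exact chkQ2_r11
    · exact chkQ2_r12
    · exact chkQ2_r13
    · exact chkQ2_r14
    · exact chkQ2_r15
    · exact chkQ2_r16
    · exact chkQ2_r17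
    · exact chkQ2_r18
    · exact chkQ2_r19)
theorem chkQ2_s1 : allR (fun p => Nat.beq (Q2 p) (U2 p)) 400000 400000 = true :=
  allR_of_chain _ 400000 400000 [(400000, 20000), (420000, 20000), (440000, 20000), (460000, 20000), (480000, 20000), (500000, 20000), (520000, 20000), (540000, 20000), (560000, 20000), (580000, 20000), (600000, 20000), (620000, 20000), (640000, 20000), (660000, 20000), (680000, 20000), (700000, 20000), (720000, 20000), (740000, 20000), (760000, 20000), (780000, 20000)] (by decide) (by
    intro c hc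
    simp only [List.mem_cons, List.mem_nil_iff, or_false] at hc
    rcases hc with rfl | rfl | rfl | rfl | rfl | rfl | rfl | rfl | rfl | rfl | rfl | rfl | rfl | rfl | rfl | rfl | rfl | rfl | rfl | rfl
    · exact chkQ2_r20
    · exact chkQ2_r21
    · exact chkQ2_r22
    · exact chkQ2_r23
    · exact chkQ2_r24
    · exact chkQ2_r25
    · exact chkQ2_r26
    · exact chkQ2_r27
    · exact chkQ2_r28
    · exact chkQ2_r29
    · exact chkQ2_r30
    · exact chkQ2_r31
    · exact chkQ2_r32
    · exact chkQ2_r33
    · exact chkQ2_r34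
    · exact chkQ2_r35
    · exact chkQ2_r36
    · exact chkQ2_r37
    · exact chkQ2_r38
    · exact chkQ2_r39)
theorem chkQ2_s2 : allR (fun p => Nat.beq (Q2 p) (U2 p)) 800000 400000 = true :=
  allR_of_chain _ 800000 400000 [(800000, 20000), (820000, 20000), (840000, 20000), (860000, 20000), (880000, 20000), (900000, 20000), (920000, 20000), (940000, 20000), (960000, 20000), (980000, 20000), (1000000, 20000), (1020000, 20000), (1040000, 20000), (1060000, 20000), (1080000, 20000), (1100000, 20000), (1120000, 20000), (1140000, 20000), (1160000, 20000), (1180000, 20000)] (by decide) (by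
    intro c hc
    simp only [List.mem_cons, List.mem_nil_iff, or_false] at hc
    rcases hc with rfl | rfl | rfl | rfl | rfl | rfl | rfl | rfl | rfl | rfl | rfl | rfl | rfl | rfl | rfl | rfl | rfl | rfl | rfl | rfl
    · exact chkQ2_r40
    · exact chkQ2_r41
    · exact chkQ2_r42
    · exact chkQ2_r43
    · exact chkQ2_r44
    · exact chkQ2_r45
    · exact chkQ2_r46
    · exact chkQ2_r47
    · exact chkQ2_r48
    · exact chkQ2_r49
    · exact chkQ2_r50
    · exact chkQ2_r51
    · exact chkQ2_r52
    · exact chkQ2_r53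
    · exact chkQ2_r54
    · exact chkQ2_r55
    · exact chkQ2_r56
    · exact chkQ2_r57
    · exact chkQ2_r58
    · exact chkQ2_r59)
theorem chkQ2_s3 : allR (fun p => Nat.beq (Q2 p) (U2 p)) 1200000 339000 = true :=
  allR_of_chain _ 1200000 339000 [(1200000, 20000), (1220000, 20000), (1240000, 20000), (1260000, 20000), (1280000, 20000), (1300000, 20000), (1320000, 20000), (1340000, 20000), (1360000, 20000), (1380000, 20000), (1400000, 20000), (1420000, 20000), (1440000, 20000), (1460000, 20000), (1480000, 20000), (1500000, 20000), (1520000, 19000)] (by decide) (by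
    intro c hc
    simp only [List.mem_cons, List.mem_nil_iff, or_false] at hc
    rcases hc with rfl | rfl | rfl | rfl | rfl | rfl | rfl | rfl | rfl | rfl | rfl | rfl | rfl | rfl | rfl | rfl | rfl
    · exact chkQ2_r60
    · exact chkQ2_r61
    · exact chkQ2_r62
    · exact chkQ2_r63
    · exact chkQ2_r64
    · exact chkQ2_r65
    · exact chkQ2_r66
    · exact chkQ2_r67
    · exact chkQ2_r68
    · exact chkQ2_r69
    · exact chkQ2_r70
    · exact chkQ2_r71
    · exact chkQ2_r72
    · exact chkQ2_r73
    · exact chkQ2_r74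
    · exact chkQ2_r75
    · exact chkQ2_r76)
theorem chkQ2_all : allB (fun p => Nat.beq (Q2 p) (U2 p)) 1539000 = true :=
  allB_of_chain _ 1539000 [(0, 400000), (400000, 400000), (800000, 400000), (1200000, 339000)] (by decide) (by
    intro c hc
    simp only [List.mem_cons, List.mem_nil_iff, or_false] at hc
    rcases hc with rfl | rfl | rfl | rfl
    · exact chkQ2_s0
    · exact chkQ2_s1
    · exact chkQ2_s2
    · exact chkQ2_s3)
end Cfsg.Agent.Lib.Helper2.HNBig
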